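import Mathlib.AlgebraicGeometry.ResidueField
import Mathlib.AlgebraicGeometry.Gluing
import Mathlib.AlgebraicGeometry.Limits
import Mathlib.AlgebraicGeometry.Morphisms.Affine
import Mathlib.AlgebraicGeometry.Morphisms.ClosedImmersion
import Mathlib.AlgebraicGeometry.Morphisms.SchemeTheoreticallyDominant
import Mathlib.RingTheory.Jacobson.Ideal
import Mathlib.Topology.JacobsonSpace

/-!
# Preliminaries: gluing along two opens, residue fields at closed points
-/

set_option autoImplicit false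
set_option linter.style.haveILetI false
set_option backward.isDefEq.respectTransparency false
set_option backward.isDefEq.respectTransparency.types false

universe u

open CategoryTheory CategoryTheory.Limits AlgebraicGeometry

noncomputable section

namespace Groth.L21.PrimeChain

section Two

variable {X Q U₁ U₂ : Scheme.{u}} (f₁ : U₁ ⟶ X) (f₂ : U₂ ⟶ X) [IsOpenImmersion f₁] [IsOpenImmersion f₂]

/-- The cover by two open immersions. -/
def twoCover (hcov : ∀ x, x ∈ Set.range f₁ ∨ x ∈ Set.range f₂) : X.OpenCover where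
  I₀ := ULift.{u} Bool
  X b := cond b.down U₁ U₂
  f b := match b with
    | ⟨true⟩ => f₁
    | ⟨false⟩ => f₂
  mem₀ := by
    refine (Scheme.ofArrows_mem_precoverage_iff _).mpr ⟨fun x => ?_, fun b => ?_⟩
    · rcases hcov x with h | h
      · exact ⟨⟨true⟩, h⟩
      · exact ⟨⟨false⟩, h⟩
    · rcases b with ⟨_ | _⟩
      · exact (inferInstance : IsOpenImmersion f₂)
      · exact (inferInstance : IsOpenImmersion f₁)

/-- Morphisms on two opens agreeing on the overlap glue. -/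
theorem exists_glue_two (hcov : ∀ x, x ∈ Set.range f₁ ∨ x ∈ Set.range f₂) (g₁ : U₁ ⟶ Q) (g₂ : U₂ ⟶ Q)
    (h : pullback.fst f₁ f₂ ≫ g₁ = pullback.snd f₁ f₂ ≫ g₂) : ∃ g : X ⟶ Q, f₁ ≫ g = g₁ ∧ f₂ ≫ g = g₂ := by
  let φ : ∀ b : (twoCover f₁ f₂ hcov).I₀, (twoCover f₁ f₂ hcov).X b ⟶ Q := fun b => match b with
    | ⟨true⟩ => g₁
    | ⟨false⟩ => g₂
  have hφ : ∀ b b', pullback.fst ((twoCover f₁ f₂ hcov).f b) ((twoCover f₁ f₂ hcov).f b') ≫ φ b =
      pullback.snd _ _ ≫ φ b' := by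
    rintro ⟨_ | _⟩ ⟨_ | _⟩
    · change pullback.fst f₂ f₂ ≫ g₂ = pullback.snd f₂ f₂ ≫ g₂
      rw [(cancel_mono f₂).1 (pullback.condition (f := f₂) (g := f₂))]
    · change pullback.fst f₂ f₁ ≫ g₂ = pullback.snd f₂ f₁ ≫ g₁
      rw [← cancel_epi (pullbackSymmetry f₁ f₂).hom, pullbackSymmetry_hom_comp_fst_assoc,
        pullbackSymmetry_hom_comp_snd_assoc]
      exact h.symm
    · exact h
    · change pullback.fst f₁ f₁ ≫ g₁ = pullback.snd f₁ f₁ ≫ g₁
      rw [(cancel_mono f₁).1 (pullback.condition (f := f₁) (g := f₁))]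
  exact ⟨(twoCover f₁ f₂ hcov).glueMorphisms φ hφ, (twoCover f₁ f₂ hcov).ι_glueMorphisms φ hφ ⟨true⟩,
    (twoCover f₁ f₂ hcov).ι_glueMorphisms φ hφ ⟨false⟩⟩

theorem hom_ext_two_opens (hcov : ∀ x, x ∈ Set.range f₁ ∨ x ∈ Set.range f₂) {g g' : X ⟶ Q}
    (h₁ : f₁ ≫ g = f₁ ≫ g') (h₂ : f₂ ≫ g = f₂ ≫ g') : g = g' := by
  refine (twoCover f₁ f₂ hcov).hom_ext _ _ ?_
  rintro ⟨_ | _⟩
  · exact h₂
  · exact h₁

end Two

/-- Gluing two schemes along a common open. -/
theorem exists_glueTwo' {V T₁ T₂ : Scheme.{u}} (a₁ : V ⟶ T₁) (a₂ : V ⟶ T₂) [IsOpenImmersion a₁] [IsOpenImmersion a₂]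
    {Z : Scheme.{u}} (f₁ : T₁ ⟶ Z) (f₂ : T₂ ⟶ Z) (hf : a₁ ≫ f₁ = a₂ ≫ f₂) :
    ∃ (T : Scheme.{u}) (i₁ : T₁ ⟶ T) (i₂ : T₂ ⟶ T) (f : T ⟶ Z), IsOpenImmersion i₁ ∧ IsOpenImmersion i₂ ∧
      a₁ ≫ i₁ = a₂ ≫ i₂ ∧ i₁ ≫ f = f₁ ∧ i₂ ≫ f = f₂ ∧ (∀ t, t ∈ Set.range i₁ ∨ t ∈ Set.range i₂) ∧
      ∀ x y, i₁ x = i₂ y → ∃ v, a₁ v = x ∧ a₂ v = y := by
  haveI hspan : ∀ {i j : WalkingSpan} (g : i ⟶ j), IsOpenImmersion ((span a₁ a₂).map g) := by
    intro i j g
    cases g with
    | id => rw [WidePushoutShape.hom_id, CategoryTheory.Functor.map_id]; infer_instance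
    | init j =>
      cases j
      · exact (inferInstance : IsOpenImmersion a₁)
      · exact (inferInstance : IsOpenImmersion a₂)
  refine ⟨pushout a₁ a₂, pushout.inl _ _, pushout.inr _ _, pushout.desc f₁ f₂ hf,
    inferInstanceAs (IsOpenImmersion (colimit.ι (span a₁ a₂) _)),
    inferInstanceAs (IsOpenImmersion (colimit.ι (span a₁ a₂) _)), pushout.condition, pushout.inl_desc _ _ _,
    pushout.inr_desc _ _ _, fun t => ?_, fun x y he => ?_⟩
  · obtain ⟨j, y, hy⟩ := Scheme.IsLocallyDirected.ι_jointly_surjective (span a₁ a₂) t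
    match j, y, hy with
    | none, y, hy =>
      left
      refine ⟨a₁ y, ?_⟩
      rw [← Scheme.Hom.comp_apply]
      refine Eq.trans ?_ hy
      exact congrArg (fun g : _ ⟶ pushout a₁ a₂ => g y) (colimit.w (span a₁ a₂) WalkingSpan.Hom.fst)
    | some WalkingPair.left, y, hy => exact Or.inl ⟨y, hy⟩
    | some WalkingPair.right, y, hy => exact Or.inr ⟨y, hy⟩
  · obtain ⟨k, fi, fj, r, hr₁, hr₂⟩ := (Scheme.IsLocallyDirected.ι_eq_ι_iff (span a₁ a₂)
      (i := WalkingSpan.left) (j := WalkingSpan.right)).1 he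
    cases fi with
    | id => exact nomatch fj
    | init =>
      cases fj with
      | init => exact ⟨r, hr₁, hr₂⟩

variable {X : Scheme.{u}} {W : X.Opens}

/-- At a closed point of an affine open, evaluation presents the residue field as a quotient. -/
theorem evaluation_spec (hW : IsAffineOpen W) (m : PrimeSpectrum Γ(X, W)) [m.asIdeal.IsMaximal] (x : X)
    (hx : hW.fromSpec m = x) (hxW : x ∈ W) :
    Function.Surjective (X.evaluation W x hxW).hom ∧ RingHom.ker (X.evaluation W x hxW).hom = m.asIdeal ∧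
      X.fromSpecResidueField x = Spec.map (X.evaluation W x hxW) ≫ hW.fromSpec := by
  subst hx
  have hm : hW.primeIdealOf ⟨hW.fromSpec m, hxW⟩ = m :=
    hW.fromSpec.isOpenEmbedding.injective (hW.fromSpec_primeIdealOf ⟨_, hxW⟩)
  letI : Algebra Γ(X, W) (X.presheaf.stalk (hW.fromSpec m)) :=
    (X.presheaf.germ W (hW.fromSpec m) hxW).hom.toAlgebra
  haveI : IsLocalization.AtPrime (X.presheaf.stalk (hW.fromSpec m)) m.asIdeal :=
    hW.isLocalization_stalk' m hxW
  have hker : RingHom.ker (X.evaluation W (hW.fromSpec m) hxW).hom = m.asIdeal := by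
    ext a
    show X.residue (hW.fromSpec m) (algebraMap Γ(X, W) (X.presheaf.stalk (hW.fromSpec m)) a) = 0 ↔ _
    rw [← RingHom.mem_ker]
    show algebraMap Γ(X, W) _ a ∈ RingHom.ker (IsLocalRing.residue (X.presheaf.stalk (hW.fromSpec m))) ↔ _
    rw [IsLocalRing.ker_residue]
    exact IsLocalization.AtPrime.to_map_mem_maximal_iff (X.presheaf.stalk (hW.fromSpec m)) m.asIdeal a
  refine ⟨fun z => ?_, hker, ?_⟩
  · obtain ⟨w, rfl⟩ := X.residue_surjective _ z
    obtain ⟨a, s, rfl⟩ := IsLocalization.exists_mk'_eq m.asIdeal.primeCompl w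
    obtain ⟨t, i, hi, hts⟩ := (‹m.asIdeal.IsMaximal›).exists_inv s.2
    refine ⟨a * t, ?_⟩
    have h1 := congrArg (X.evaluation W (hW.fromSpec m) hxW).hom hts
    rw [map_add, map_mul, map_one, show (X.evaluation W (hW.fromSpec m) hxW).hom i = 0 by
      rw [← RingHom.mem_ker, hker]; exact hi, add_zero] at h1
    have h2 : X.residue _ (IsLocalization.mk' (X.presheaf.stalk (hW.fromSpec m)) a s) *
        (X.evaluation W (hW.fromSpec m) hxW).hom s = (X.evaluation W (hW.fromSpec m) hxW).hom a := by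
      show X.residue _ _ * X.residue _ (algebraMap Γ(X, W) _ s) = X.residue _ (algebraMap Γ(X, W) _ a)
      rw [← map_mul, IsLocalization.mk'_spec]
    rw [map_mul, ← h2, mul_assoc, mul_comm _ ((X.evaluation W (hW.fromSpec m) hxW).hom t), h1, mul_one]
  · rw [Scheme.fromSpecResidueField, ← hW.fromSpecStalk_eq_fromSpecStalk hxW, IsAffineOpen.fromSpecStalk,
      ← Spec.map_comp_assoc]
    rfl

/-- Points of a finite closed subset of a Jacobson space are closed. -/
theorem isClosed_singleton_of_finite {T : Type*} [TopologicalSpace T] [JacobsonSpace T] {Z : Set T}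
    (hZ : IsClosed Z) (hfin : Z.Finite) {x : T} (hx : x ∈ Z) : IsClosed ({x} : Set T) := by
  have h : IsClosed (Z ∩ closedPoints T) := by
    rw [← Set.biUnion_of_singleton (Z ∩ closedPoints T)]
    exact (hfin.subset Set.inter_subset_left).isClosed_biUnion fun y hy => hy.2
  have hx' : x ∈ closure (Z ∩ closedPoints T) := by rw [closure_inter_closedPoints hZ]; exact hx
  rw [h.closure_eq] at hx'
  exact hx'.2

end Groth.L21.PrimeChain
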