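import Groth.Agent.L20.Pinch.Ring
import Mathlib.RingTheory.Artinian.Module
import Mathlib.RingTheory.Artinian.Ring
import Mathlib.RingTheory.Nakayama
import Mathlib.Algebra.Module.Torsion.Basic
import Mathlib.RingTheory.Localization.Away.Basic
import Mathlib.RingTheory.Ideal.Quotient.Operations
import Mathlib.Algebra.DualNumber
import Mathlib.RingTheory.Nilpotent.Lemmas

/-!
# Minimal finite extensions of rings
-/

set_option autoImplicit false
set_option linter.style.haveILetI false
set_option linter.unusedSectionVars false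

universe u

namespace Groth.L21.PrimeChain

open Groth.L20.Pinch (IsFib)

variable {A B : Type u} [CommRing A] [CommRing B] [Algebra A B]

variable (B) in
/-- The largest subalgebra in which a given ideal of the base is an ideal. -/
def idealizer (m : Ideal A) : Subalgebra A B where
  carrier := {s | ∀ c ∈ m, ∃ d ∈ m, algebraMap A B c * s = algebraMap A B d}
  mul_mem' {s t} hs ht c hc := by
    obtain ⟨d, hd, e⟩ := hs c hc
    obtain ⟨d', hd', e'⟩ := ht d hd
    exact ⟨d', hd', by rw [← mul_assoc, e, e']⟩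
  add_mem' {s t} hs ht c hc := by
    obtain ⟨d, hd, e⟩ := hs c hc
    obtain ⟨d', hd', e'⟩ := ht c hc
    exact ⟨d + d', m.add_mem hd hd', by rw [mul_add, e, e', map_add]⟩
  algebraMap_mem' a c hc := ⟨c * a, m.mul_mem_right a hc, (map_mul _ _ _).symm⟩

theorem mem_idealizer {m : Ideal A} {s : B} :
    s ∈ idealizer B m ↔ ∀ c ∈ m, ∃ d ∈ m, algebraMap A B c * s = algebraMap A B d := Iff.rfl

/-- A maximal ideal of the base is the trace of the ideal it generates in a finite extension. -/
theorem comap_map_eq [Module.Finite A B] (hinj : Function.Injective (algebraMap A B)) (m : Ideal A)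
    [m.IsMaximal] : (m.map (algebraMap A B)).comap (algebraMap A B) = m := by
  refine ((‹m.IsMaximal›).eq_of_le ?_ Ideal.le_comap_map).symm
  rw [ne_eq, Ideal.comap_eq_top_iff]
  intro h
  have h1 : (⊤ : Submodule A B) ≤ m • (⊤ : Submodule A B) := by
    rw [Ideal.smul_top_eq_map, h]
    exact le_of_eq (Submodule.restrictScalars_top A B B).symm
  obtain ⟨r, hr, hr0⟩ :=
    Submodule.exists_sub_one_mem_and_smul_eq_zero_of_fg_of_le_smul m ⊤ Module.Finite.fg_top h1
  have hr1 : algebraMap A B r = 0 := by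
    rw [Algebra.algebraMap_eq_smul_one]; exact hr0 _ trivial
  rw [← map_zero (algebraMap A B)] at hr1
  rw [hinj hr1] at hr
  exact (‹m.IsMaximal›).ne_top ((Ideal.eq_top_iff_one _).2 (by simpa using hr))

theorem mem_idealizer_of [Module.Finite A B] (hinj : Function.Injective (algebraMap A B)) (m : Ideal A)
    [m.IsMaximal] {b : B} (hb : ∀ c ∈ m, algebraMap A B c * b ∈ (algebraMap A B).range) :
    b ∈ idealizer B m := by
  intro c hc
  obtain ⟨d, hd⟩ := hb c hc
  refine ⟨d, ?_, hd.symm⟩
  rw [← comap_map_eq hinj m, Ideal.mem_comap, hd]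
  exact Ideal.mul_mem_right _ _ (Ideal.mem_map_of_mem _ hc)

/-- An element killed by a maximal ideal modulo the base lies over a minimal intermediate algebra. -/
theorem exists_minimal [IsNoetherianRing A] [Module.Finite A B] (hinj : Function.Injective (algebraMap A B))
    (m : Ideal A) [m.IsMaximal] {b : B} (hb : b ∉ (algebraMap A B).range)
    (hbm : ∀ c ∈ m, algebraMap A B c * b ∈ (algebraMap A B).range) :
    ∃ S : Subalgebra A B, S ≠ ⊥ ∧ S ≤ idealizer B m ∧ ∀ T, T ≤ S → T = ⊥ ∨ T = S := by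
  let V := idealizer B m
  let P : Submodule A V := LinearMap.range (Algebra.linearMap A V)
  have hV : Module.IsTorsionBySet A (V ⧸ P) (m : Set A) := by
    rintro z ⟨c, hc⟩
    obtain ⟨s, rfl⟩ := Submodule.Quotient.mk_surjective P z
    obtain ⟨d, -, hd⟩ := s.2 c hc
    rw [← Submodule.Quotient.mk_smul, Submodule.Quotient.mk_eq_zero]
    exact ⟨d, Subtype.ext (by simpa [Algebra.smul_def] using hd.symm)⟩
  letI := hV.module
  haveI : IsScalarTower A (A ⧸ m) (V ⧸ P) := hV.isScalarTower
  haveI : Module.Finite A V :=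
    inferInstanceAs (Module.Finite A (Subalgebra.toSubmodule V))
  haveI : Module.Finite (A ⧸ m) (V ⧸ P) := Module.Finite.of_restrictScalars_finite A _ _
  letI := Ideal.Quotient.field m
  let μ : Subalgebra A B → Submodule (A ⧸ m) (V ⧸ P) := fun T =>
    { carrier := P.mkQ '' {s : V | (s : B) ∈ T}
      add_mem' := by
        rintro _ _ ⟨s, hs, rfl⟩ ⟨t, ht, rfl⟩
        exact ⟨s + t, T.add_mem hs ht, map_add _ _ _⟩
      zero_mem' := ⟨0, T.zero_mem, map_zero _⟩
      smul_mem' := by
        intro q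
        obtain ⟨a, rfl⟩ := Ideal.Quotient.mk_surjective q
        rintro _ ⟨s, hs, rfl⟩
        exact ⟨a • s, T.smul_mem hs a, map_smul _ _ _⟩ }
  have hbot : (⊥ : Subalgebra A B) ≠ V := fun h => by
    have hb' : b ∈ V := mem_idealizer_of hinj m hbm
    rw [← h, Algebra.mem_bot] at hb'
    exact hb hb'
  obtain ⟨S, ⟨hSV, hS⟩, hmin⟩ := (InvImage.wf μ (wellFounded_lt (α := Submodule (A ⧸ m) (V ⧸ P)))).has_min
    {T | T ≤ V ∧ T ≠ ⊥} ⟨V, le_rfl, hbot.symm⟩
  refine ⟨S, hS, hSV, fun T hT => ?_⟩
  by_contra hne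
  push Not at hne
  refine hmin T ⟨hT.trans hSV, hne.1⟩ (lt_of_le_of_ne ?_ fun he => hne.2 (le_antisymm hT fun s hs => ?_))
  · rintro _ ⟨s, hs, rfl⟩
    exact ⟨s, hT hs, rfl⟩
  · have : P.mkQ ⟨s, hSV hs⟩ ∈ μ T := he ▸ ⟨_, hs, rfl⟩
    obtain ⟨t, ht, hts⟩ := this
    rw [Submodule.mkQ_apply, Submodule.mkQ_apply, Submodule.Quotient.eq] at hts
    obtain ⟨a, ha⟩ := hts
    have ha' : algebraMap A B a = t - s := congrArg Subtype.val ha
    rw [show s = (t : B) - algebraMap A B a by rw [ha']; ring]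
    exact T.sub_mem ht (T.algebraMap_mem a)

variable (A B) in
/-- A finite extension with no intermediate algebra in which a maximal ideal of the base is an ideal. -/
structure IsMinimal (m : Ideal A) : Prop where
  inj : Function.Injective (algebraMap A B)
  ne : ¬ Function.Surjective (algebraMap A B)
  simple : ∀ T : Subalgebra A B, T = ⊥ ∨ T = ⊤
  ideal : ∀ c ∈ m, ∀ s : B, ∃ d ∈ m, algebraMap A B c * s = algebraMap A B d

/-- The intermediate algebra of `exists_minimal` is a minimal extension. -/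
theorem isMinimal_of (hinj : Function.Injective (algebraMap A B)) {m : Ideal A} {S : Subalgebra A B}
    (hS : S ≠ ⊥) (hle : S ≤ idealizer B m) (hmin : ∀ T, T ≤ S → T = ⊥ ∨ T = S) : IsMinimal A S m where
  inj a a' h := hinj (congrArg Subtype.val h)
  ne h := hS <| eq_bot_iff.2 fun s hs => by
    obtain ⟨a, ha⟩ := h ⟨s, hs⟩
    exact Algebra.mem_bot.2 ⟨a, congrArg Subtype.val ha⟩
  simple T := by
    rcases hmin (T.map S.val) (by rintro _ ⟨t, -, rfl⟩; exact t.2) with h | h
    · refine Or.inl (eq_bot_iff.2 fun t ht => ?_)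
      have : (t : B) ∈ T.map S.val := ⟨t, ht, rfl⟩
      rw [h] at this
      obtain ⟨a, ha⟩ := Algebra.mem_bot.1 this
      exact Algebra.mem_bot.2 ⟨a, Subtype.ext ha⟩
    · refine Or.inr (eq_top_iff.2 fun t _ => ?_)
      have : (t : B) ∈ T.map S.val := by rw [h]; exact t.2
      obtain ⟨t', ht', he⟩ := this
      rwa [← Subtype.ext (p := (· ∈ S)) he]
  ideal c hc s := by
    obtain ⟨d, hd, e⟩ := hle s.2 c hc
    exact ⟨d, hd, Subtype.ext e⟩

variable {m : Ideal A}

theorem IsMinimal.mem_map_iff (h : IsMinimal A B m) {s : B} :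
    s ∈ m.map (algebraMap A B) ↔ ∃ d ∈ m, s = algebraMap A B d := by
  refine ⟨fun hs => ?_, fun ⟨d, hd, e⟩ => e ▸ Ideal.mem_map_of_mem _ hd⟩
  rw [Ideal.map] at hs
  induction hs using Submodule.span_induction with
  | mem z hz => obtain ⟨d, hd, rfl⟩ := hz; exact ⟨d, hd, rfl⟩
  | zero => exact ⟨0, m.zero_mem, (map_zero _).symm⟩
  | add x y _ _ hx hy =>
    obtain ⟨a, ha, rfl⟩ := hx
    obtain ⟨b, hb, rfl⟩ := hy
    exact ⟨a + b, m.add_mem ha hb, (map_add _ _ _).symm⟩
  | smul r x _ hx =>
    obtain ⟨a, ha, rfl⟩ := hx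
    obtain ⟨d, hd, e⟩ := h.ideal a ha r
    exact ⟨d, hd, by rw [smul_eq_mul, mul_comm]; exact e⟩

/-- A minimal extension is a fibre product. -/
theorem IsMinimal.isFib (h : IsMinimal A B m) {K : Type u} [CommRing K] (ρ : A →+* K) (hρ : Function.Surjective ρ)
    (hker : RingHom.ker ρ = m) (ψ : K →+* B ⧸ m.map (algebraMap A B))
    (hψ : ψ.comp ρ = (Ideal.Quotient.mk _).comp (algebraMap A B)) :
    IsFib ρ (algebraMap A B) ψ (Ideal.Quotient.mk (m.map (algebraMap A B))) where
  comm := hψ
  inj t _ h2 := h.inj (by rw [h2, map_zero])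
  glue x y e := by
    obtain ⟨a, rfl⟩ := hρ x
    rw [← RingHom.comp_apply, hψ, RingHom.comp_apply, Ideal.Quotient.eq] at e
    obtain ⟨d, hd, hd'⟩ := h.mem_map_iff.1 e
    rw [← hker, RingHom.mem_ker] at hd
    exact ⟨a - d, by rw [map_sub, hd, sub_zero], by rw [map_sub, ← hd']; ring⟩
  surj := Ideal.Quotient.mk_surjective

theorem IsMinimal.isSimpleOrder (h : IsMinimal A B m) {K : Type u} [CommRing K] (ρ : A →+* K)
    (hρ : Function.Surjective ρ) [Algebra K (B ⧸ m.map (algebraMap A B))]
    (hψ : (algebraMap K (B ⧸ m.map (algebraMap A B))).comp ρ = (Ideal.Quotient.mk _).comp (algebraMap A B)) :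
    IsSimpleOrder (Subalgebra K (B ⧸ m.map (algebraMap A B))) := by
  have key : ∀ a, algebraMap K (B ⧸ m.map (algebraMap A B)) (ρ a) =
      Ideal.Quotient.mk (m.map (algebraMap A B)) (algebraMap A B a) := fun a => RingHom.congr_fun hψ a
  haveI : Nontrivial (Subalgebra K (B ⧸ m.map (algebraMap A B))) := by
    refine ⟨⊥, ⊤, fun e => h.ne fun b => ?_⟩
    have hb : Ideal.Quotient.mk (m.map (algebraMap A B)) b ∈ (⊥ : Subalgebra K (B ⧸ m.map (algebraMap A B))) := by
      rw [e]; trivial
    obtain ⟨x, hx⟩ := Algebra.mem_bot.1 hb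
    obtain ⟨a, rfl⟩ := hρ x
    rw [key, Ideal.Quotient.eq] at hx
    obtain ⟨d, -, hd⟩ := h.mem_map_iff.1 hx
    exact ⟨a - d, by rw [map_sub, ← hd]; ring⟩
  refine ⟨fun T => ?_⟩
  let T' : Subalgebra A B :=
    { (T.toSubsemiring.comap (Ideal.Quotient.mk (m.map (algebraMap A B)))) with
      algebraMap_mem' := fun a => by
        show Ideal.Quotient.mk (m.map (algebraMap A B)) (algebraMap A B a) ∈ T
        rw [← key]
        exact T.algebraMap_mem _ }
  rcases h.simple T' with e | e
  · refine Or.inl (eq_bot_iff.2 fun z hz => ?_)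
    obtain ⟨s, rfl⟩ := Ideal.Quotient.mk_surjective z
    have hs : s ∈ T' := hz
    rw [e] at hs
    obtain ⟨a, rfl⟩ := Algebra.mem_bot.1 hs
    exact Algebra.mem_bot.2 ⟨ρ a, key a⟩
  · refine Or.inr (eq_top_iff.2 fun z _ => ?_)
    obtain ⟨s, rfl⟩ := Ideal.Quotient.mk_surjective z
    have hs : s ∈ T' := by rw [e]; trivial
    exact hs

/-- A minimal extension is an isomorphism away from its maximal ideal. -/
theorem IsMinimal.bijective_awayMap (h : IsMinimal A B m) {r : A} (hr : r ∈ m) :
    Function.Bijective (Localization.awayMap (algebraMap A B) r) := by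
  let R₁ := Localization.Away r
  let S₁ := Localization.Away (algebraMap A B r)
  let pA : ℕ → Submonoid.powers r := fun n => ⟨r ^ n, n, rfl⟩
  let pB : ℕ → Submonoid.powers (algebraMap A B r) := fun n => ⟨algebraMap A B r ^ n, n, rfl⟩
  have hmk : ∀ (a : A) (n : ℕ), Localization.awayMap (algebraMap A B) r
      (IsLocalization.mk' R₁ a (pA n)) = IsLocalization.mk' S₁ (algebraMap A B a) (pB n) := fun a n => by
    refine (IsLocalization.map_mk' _ _ _).trans ?_
    congr 1
    exact Subtype.ext (map_pow _ _ _)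
  refine ⟨(injective_iff_map_eq_zero _).2 fun z hz => ?_, fun z => ?_⟩
  · obtain ⟨a, ⟨_, n, rfl⟩, rfl⟩ := IsLocalization.exists_mk'_eq (Submonoid.powers r) z
    erw [hmk] at hz
    obtain ⟨⟨_, k, rfl⟩, hk⟩ := (IsLocalization.mk'_eq_zero_iff _ _).1 hz
    refine (IsLocalization.mk'_eq_zero_iff _ _).2 ⟨⟨_, k, rfl⟩, h.inj ?_⟩
    simpa using hk
  · obtain ⟨s, ⟨_, n, rfl⟩, rfl⟩ := IsLocalization.exists_mk'_eq (Submonoid.powers (algebraMap A B r)) z
    obtain ⟨d, -, hd⟩ := h.ideal r hr s
    refine ⟨IsLocalization.mk' R₁ d (pA (n + 1)), (hmk d (n + 1)).trans ?_⟩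
    refine IsLocalization.mk'_eq_of_eq ?_
    show algebraMap A B r ^ (n + 1) * s = algebraMap A B r ^ n * algebraMap A B d
    rw [← hd]; ring

/-- A simple algebra with a unique prime and trivial residue extension is the algebra of dual numbers. -/
theorem exists_dualNumber_equiv {K R : Type u} [Field K] [CommRing R] [Algebra K R]
    [IsSimpleOrder (Subalgebra K R)] [Subsingleton (PrimeSpectrum R)]
    (hres : ∀ p : PrimeSpectrum R, Function.Surjective ((Ideal.Quotient.mk p.asIdeal).comp (algebraMap K R))) :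
    Nonempty (DualNumber K ≃ₐ[K] R) := by
  haveI : Nontrivial R := not_subsingleton_iff_nontrivial.1 fun _ =>
    (bot_ne_top (α := Subalgebra K R)) (eq_top_iff.2 fun z _ => by
      rw [Subsingleton.elim z 0]; exact Subalgebra.zero_mem _)
  obtain ⟨p⟩ : Nonempty (PrimeSpectrum R) := inferInstance
  have hnil : ∀ z ∈ p.asIdeal, IsNilpotent z := fun z hz => by
    rw [← mem_nilradical, nilradical_eq_sInf, Submodule.mem_sInf]
    intro q hq
    have := Subsingleton.elim p ⟨q, hq⟩
    rw [this] at hz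
    exact hz
  obtain ⟨v, hv, hv0⟩ : ∃ v ∈ p.asIdeal, v ≠ 0 := by
    by_contra hc
    push Not at hc
    refine bot_ne_top (α := Subalgebra K R) (eq_top_iff.2 fun z _ => ?_)
    obtain ⟨a, ha⟩ := hres p (Ideal.Quotient.mk _ z)
    rw [RingHom.comp_apply, Ideal.Quotient.eq] at ha
    exact Algebra.mem_bot.2 ⟨a, sub_eq_zero.1 (hc _ ha)⟩
  have hvv : v * v = 0 := by
    rcases eq_bot_or_eq_top (Algebra.adjoin K ({v * v} : Set R)) with e | e
    · have h1 : v * v ∈ (⊥ : Subalgebra K R) := e ▸ Algebra.self_mem_adjoin_singleton K _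
      obtain ⟨a, ha⟩ := Algebra.mem_bot.1 h1
      have ha' : IsNilpotent a := by
        rw [← IsNilpotent.map_iff (algebraMap K R).injective, ha]
        exact (Commute.all v v).isNilpotent_mul_right (hnil v hv)
      rw [← ha, ha'.eq_zero, map_zero]
    · have h1 : v ∈ Algebra.adjoin K ({v * v} : Set R) := e ▸ trivial
      rw [Algebra.adjoin_singleton_eq_range_aeval] at h1
      obtain ⟨P, hP⟩ := h1
      replace hP : Polynomial.aeval (v * v) P = v := hP
      rw [← P.X_mul_divX_add, map_add, map_mul, Polynomial.aeval_X, Polynomial.aeval_C] at hP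
      set q := Polynomial.aeval (v * v) P.divX
      have ha : IsNilpotent (P.coeff 0) := by
        rw [← IsNilpotent.map_iff (algebraMap K R).injective,
          show algebraMap K R (P.coeff 0) = v * (1 - v * q) by linear_combination hP]
        exact (Commute.all v _).isNilpotent_mul_right (hnil v hv)
      rw [ha.eq_zero, map_zero, add_zero] at hP
      have hu : IsUnit (1 - v * q) := IsNilpotent.isUnit_one_sub ((Commute.all v q).isNilpotent_mul_right (hnil v hv))
      exact absurd (hu.mul_left_eq_zero.1 (show v * (1 - v * q) = 0 by linear_combination -hP)) hv0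
  let e : DualNumber K →ₐ[K] R := DualNumber.lift ⟨(Algebra.ofId K R, v), hvv, fun _ => Commute.all _ _⟩
  have he : ∀ t : DualNumber K, e t = algebraMap K R t.fst + algebraMap K R t.snd * v := fun t => by
    simp [e, DualNumber.lift_apply_apply]
  refine ⟨AlgEquiv.ofBijective e ⟨(injective_iff_map_eq_zero e).2 fun t ht => ?_, ?_⟩⟩
  · rw [he] at ht
    have h1 : t.fst = 0 := by
      by_contra hne
      refine p.2.ne_top ((Ideal.eq_top_iff_one _).2 ?_)
      have : algebraMap K R t.fst ∈ p.asIdeal := by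
        rw [eq_neg_of_add_eq_zero_left ht]
        exact p.asIdeal.neg_mem (p.asIdeal.mul_mem_left _ hv)
      have := p.asIdeal.mul_mem_left (algebraMap K R t.fst⁻¹) this
      rwa [← map_mul, inv_mul_cancel₀ hne, map_one] at this
    rw [h1, map_zero, zero_add] at ht
    have h2 : t.snd = 0 := by
      by_contra hne
      refine hv0 ?_
      have := congrArg (algebraMap K R t.snd⁻¹ * ·) ht
      simpa [← mul_assoc, ← map_mul, inv_mul_cancel₀ hne] using this
    exact TrivSqZeroExt.ext h1 h2
  · have hε : e DualNumber.eps = v := by rw [he]; simp [DualNumber.fst_eps, DualNumber.snd_eps]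
    rw [← AlgHom.range_eq_top]
    refine (eq_bot_or_eq_top e.range).resolve_left fun hb => ?_
    have hv' : v ∈ e.range := ⟨_, hε⟩
    rw [hb] at hv'
    obtain ⟨a, ha⟩ := Algebra.mem_bot.1 hv'
    have ha' : IsNilpotent a := by
      rw [← IsNilpotent.map_iff (algebraMap K R).injective, ha]
      exact hnil v hv
    exact hv0 (by rw [← ha, ha'.eq_zero, map_zero])

end Groth.L21.PrimeChain
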