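import Groth.Agent.L21.PrimeChain.Algebra
import Groth.Agent.L21.PrimeChain.Prelim
import Groth.Agent.L20.Pinch.Affine
import Mathlib.AlgebraicGeometry.Morphisms.Finite
import Mathlib.AlgebraicGeometry.Morphisms.IsIso
import Mathlib.AlgebraicGeometry.Properties

/-!
# Modifying a scheme at a closed point along a minimal extension
-/

set_option autoImplicit false
set_option linter.style.haveILetI false
set_option linter.unusedSectionVars false
set_option backward.isDefEq.respectTransparency false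
set_option backward.isDefEq.respectTransparency.types false
set_option maxHeartbeats 1600000

universe u

open CategoryTheory CategoryTheory.Limits AlgebraicGeometry

noncomputable section

namespace Groth.L21.PrimeChain

open Groth.L09.Patch (sp sp_comp)

/-- A pushout along a prime algebra at a closed point. -/
structure IsStep {Y' Y : Scheme.{u}} (c : Y' ⟶ Y) (x : Y) : Prop where
  closed : IsClosed ({x} : Set Y)
  pushout : ∃ (R : Type u) (_ : CommRing R) (_ : Algebra (Y.residueField x) R)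
    (_ : IsSimpleOrder (Subalgebra (Y.residueField x) R)) (j : Spec (CommRingCat.of R) ⟶ Y'),
    IsClosedImmersion j ∧
      IsPushout j (Spec.map (CommRingCat.ofHom (algebraMap (Y.residueField x) R))) c (Y.fromSpecResidueField x)

/-- Modification at a closed point: the data. -/
structure Modif {X Y : Scheme.{u}} (a : X ⟶ Y) (x : Y) where
  /-- the new scheme -/
  obj : Scheme.{u}
  /-- the factor from the source -/
  b : X ⟶ obj
  /-- the step -/
  c : obj ⟶ Y
  fac : b ≫ c = a
  finite_b : IsFinite b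
  surj_b : Surjective b
  reduced : IsReduced obj
  finite_c : IsFinite c
  not_iso : ¬ IsIso c
  iso_away : ∀ O : Y.Opens, x ∉ O → IsIso (c ∣_ O)
  step : IsStep c x

theorem isIso_restrict_basicOpen {A S : CommRingCat.{u}} (f : A ⟶ S) (r : A)
    (h : Function.Bijective (Localization.awayMap f.hom r)) :
    IsIso (Spec.map f ∣_ (PrimeSpectrum.basicOpen r : (Spec A).Opens)) :=
  ((MorphismProperty.isomorphisms Scheme).arrow_mk_iso_iff (SpecMapRestrictBasicOpenIso f r)).2
    ((isIso_SpecMap_iff (f := CommRingCat.ofHom (Localization.awayMap f.hom r))).2 h)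

theorem isIso_restrict_compl {A : Type u} [CommRing A] {S : Type u} [CommRing S] [Algebra A S] {m : Ideal A}
    (h : IsMinimal A S m) {O' : (Spec (CommRingCat.of A)).Opens}
    (hO : ∀ q : PrimeSpectrum A, q ∈ O' ↔ ¬ m ≤ q.asIdeal) :
    IsIso ((Spec.map (CommRingCat.ofHom (algebraMap A S))) ∣_ O') := by
  refine IsZariskiLocalAtTarget.of_forall_exists_morphismRestrict (P := MorphismProperty.isomorphisms Scheme)
    fun y => ?_
  obtain ⟨r, hrm, hr⟩ := SetLike.not_le_iff_exists.1 ((hO (O'.ι y)).1 y.2)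
  let D : (Spec (CommRingCat.of A)).Opens := PrimeSpectrum.basicOpen r
  have hle : O'.ι ''ᵁ (O'.ι ⁻¹ᵁ D) = D := by
    rw [Scheme.Hom.image_preimage_eq_opensRange_inf, Scheme.Opens.opensRange_ι, inf_eq_right]
    exact fun q hq => (hO q).2 fun hle => hq (hle hrm)
  have h1 : IsIso (Spec.map (CommRingCat.ofHom (algebraMap A S)) ∣_ D) :=
    isIso_restrict_basicOpen (A := CommRingCat.of A) (S := CommRingCat.of S) (CommRingCat.ofHom (algebraMap A S)) r
      (h.bijective_awayMap hrm)
  rw [← hle] at h1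
  exact ⟨O'.ι ⁻¹ᵁ D, hr,
    ((MorphismProperty.isomorphisms Scheme).arrow_mk_iso_iff (morphismRestrictRestrict _ _ _)).2 h1⟩

theorem exists_modif {X Y : Scheme.{u}} (a : X ⟶ Y) [IsFinite a] [Surjective a] [IsReduced X] [IsReduced Y]
    {W : Y.Opens} (hW : IsAffineOpen W) (m : PrimeSpectrum Γ(Y, W)) [hm : m.asIdeal.IsMaximal]
    (hx : IsClosed ({hW.fromSpec m} : Set Y)) (S : Type u) [CommRing S] [Algebra Γ(Y, W) S]
    (hS : IsMinimal Γ(Y, W) S m.asIdeal) [Module.Finite Γ(Y, W) S] (ψ : S →+* Γ(X, a ⁻¹ᵁ W)) (hψ : Function.Injective ψ)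
    (hψa : ψ.comp (algebraMap Γ(Y, W) S) = (a.app W).hom) : Nonempty (Modif a (hW.fromSpec m)) := by
  set x := hW.fromSpec m with hxdef
  let φ : Γ(Y, W) →+* S := algebraMap Γ(Y, W) S
  let σ : Spec (CommRingCat.of S) ⟶ Spec Γ(Y, W) := Spec.map (CommRingCat.ofHom φ)
  let u : Spec (CommRingCat.of S) ⟶ Y := σ ≫ hW.fromSpec
  let O : Y.Opens := ⟨({x} : Set Y)ᶜ, hx.isOpen_compl⟩
  have hxW : x ∈ W := by
    have : x ∈ Set.range hW.fromSpec := ⟨m, rfl⟩
    rwa [hW.range_fromSpec] at this
  let O' : (Spec Γ(Y, W)).Opens := hW.fromSpec ⁻¹ᵁ O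
  have hO' : ∀ q : PrimeSpectrum Γ(Y, W), q ∈ O' ↔ ¬ m.asIdeal ≤ q.asIdeal := fun q => by
    show hW.fromSpec q ≠ x ↔ _
    rw [ne_eq, not_iff_not, hxdef, hW.fromSpec.isOpenEmbedding.injective.eq_iff]
    exact ⟨fun h => h ▸ le_rfl, fun h => PrimeSpectrum.ext (hm.eq_of_le q.2.ne_top h).symm⟩
  haveI hσiso : IsIso (σ ∣_ O') := isIso_restrict_compl hS hO'
  let O1 : (Spec (CommRingCat.of S)).Opens := u ⁻¹ᵁ O
  haveI : IsOpenImmersion (u ∣_ O) := by
    haveI : IsOpenImmersion ((u ∣_ O) ≫ O.ι) := by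
      rw [morphismRestrict_ι]
      show IsOpenImmersion ((σ ⁻¹ᵁ O').ι ≫ σ ≫ hW.fromSpec)
      rw [← Category.assoc, ← morphismRestrict_ι]
      infer_instance
    exact IsOpenImmersion.of_comp _ O.ι
  obtain ⟨T, i1, i2, c, hi1, hi2, hcomm, hc1, hc2, hcov, hmeet⟩ :=
    exists_glueTwo' O1.ι (u ∣_ O) u O.ι (morphismRestrict_ι u O).symm
  haveI := hi1; haveI := hi2
  have hp1 : IsPullback σ i1 hW.fromSpec c := by
    refine IsOpenImmersion.isPullback _ _ _ _ hc1 ?_
    ext t
    show c t ∈ Set.range hW.fromSpec ↔ t ∈ Set.range i1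
    refine ⟨fun ⟨q, hq⟩ => ?_, fun ⟨z, hz⟩ => ⟨σ z, ?_⟩⟩
    · rcases hcov t with h | ⟨y, rfl⟩
      · exact h
      · rw [← Scheme.Hom.comp_apply, hc2] at hq
        have hqO : q ∈ O' := by
          show hW.fromSpec q ∈ O
          rw [hq]; exact y.2
        obtain ⟨z, hz⟩ := (σ ∣_ O').surjective ⟨q, hqO⟩
        have hz' : σ ((σ ⁻¹ᵁ O').ι z) = q := by
          rw [← Scheme.Hom.comp_apply, ← morphismRestrict_ι, Scheme.Hom.comp_apply, hz]
          rfl
        refine ⟨(σ ⁻¹ᵁ O').ι z, ?_⟩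
        have hzO : (σ ⁻¹ᵁ O').ι z ∈ O1 := z.2
        have : (u ∣_ O) ⟨_, hzO⟩ = y := O.ι.isOpenEmbedding.injective <| by
          rw [← Scheme.Hom.comp_apply, morphismRestrict_ι, Scheme.Hom.comp_apply]
          show hW.fromSpec (σ ((σ ⁻¹ᵁ O').ι z)) = _
          rw [hz', hq]
        rw [← this, ← Scheme.Hom.comp_apply (u ∣_ O), ← hcomm]
        rfl
    · rw [← hz, ← Scheme.Hom.comp_apply i1, hc1]
      rfl
  have hp2 : IsPullback (𝟙 _) i2 O.ι c := by
    refine IsOpenImmersion.isPullback _ _ _ _ (by rw [Category.id_comp]; exact hc2) ?_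
    ext t
    show c t ∈ Set.range O.ι ↔ t ∈ Set.range i2
    rw [Scheme.Opens.range_ι]
    refine ⟨fun h => ?_, fun ⟨y, hy⟩ => ?_⟩
    · rcases hcov t with ⟨z, rfl⟩ | h'
      · rw [← Scheme.Hom.comp_apply, hc1] at h
        exact ⟨(u ∣_ O) ⟨z, h⟩, by rw [← Scheme.Hom.comp_apply, ← hcomm]; rfl⟩
      · exact h'
    · rw [← hy, ← Scheme.Hom.comp_apply, hc2]; exact y.2
  have hcovX : ∀ y : Y, y ∈ Set.range hW.fromSpec ∨ y ∈ Set.range O.ι := fun y => by
    rw [hW.range_fromSpec, Scheme.Opens.range_ι]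
    by_cases h : y = x
    · exact Or.inl (h ▸ hxW)
    · exact Or.inr h
  -- the morphism to the modification
  let B := Γ(X, a ⁻¹ᵁ W)
  let hB : IsAffineOpen (a ⁻¹ᵁ W) := hW.preimage a
  have hψint : ψ.IsIntegral := by
    refine RingHom.IsIntegral.tower_top φ ψ ?_
    rw [hψa]
    exact RingHom.IsIntegral.of_finite (a.finite_app W hW)
  let g1 : Spec B ⟶ T := Spec.map (CommRingCat.ofHom ψ) ≫ i1
  let g2 : (a ⁻¹ᵁ O).toScheme ⟶ T := (a ∣_ O) ≫ i2
  have hg1 : g1 ≫ c = hB.fromSpec ≫ a := by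
    show (Spec.map (CommRingCat.ofHom ψ) ≫ i1) ≫ c = _
    rw [Category.assoc, hc1]
    show Spec.map (CommRingCat.ofHom ψ) ≫ Spec.map (CommRingCat.ofHom φ) ≫ hW.fromSpec = _
    rw [← Spec.map_comp_assoc, ← CommRingCat.ofHom_comp, hψa, CommRingCat.ofHom_hom,
      Scheme.Hom.app_eq_appLE, IsAffineOpen.SpecMap_appLE_fromSpec]
  obtain ⟨b, hb1, hb2⟩ := exists_glue_two hB.fromSpec (a ⁻¹ᵁ O).ι (fun z => by
      rw [hB.range_fromSpec, Scheme.Opens.range_ι]
      by_cases h : a z = x
      · exact Or.inl (show a z ∈ W from h ▸ hxW)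
      · exact Or.inr h) g1 g2 (by
      have hk : (pullback.fst hB.fromSpec (a ⁻¹ᵁ O).ι ≫ g1) ≫ c =
          (pullback.snd hB.fromSpec (a ⁻¹ᵁ O).ι ≫ (a ∣_ O)) ≫ O.ι := by
        rw [Category.assoc, hg1, Category.assoc, morphismRestrict_ι, pullback.condition_assoc]
      have e1 := hp2.lift_fst _ _ hk.symm
      rw [Category.comp_id] at e1
      have e2 := hp2.lift_snd _ _ hk.symm
      rw [e1] at e2
      show _ = pullback.snd hB.fromSpec (a ⁻¹ᵁ O).ι ≫ (a ∣_ O) ≫ i2
      rw [← Category.assoc]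
      exact e2.symm)
  have hbc : b ≫ c = a := by
    refine hom_ext_two_opens hB.fromSpec (a ⁻¹ᵁ O).ι (fun z => by
      rw [hB.range_fromSpec, Scheme.Opens.range_ι]
      by_cases h : a z = x
      · exact Or.inl (show a z ∈ W from h ▸ hxW)
      · exact Or.inr h) ?_ ?_
    · rw [← Category.assoc, hb1, hg1]
    · rw [← Category.assoc, hb2]
      show ((a ∣_ O) ≫ i2) ≫ c = _
      rw [Category.assoc, hc2, morphismRestrict_ι]
  haveI hcO : IsIso (c ∣_ O) := by
    let e := (hp2.flip).isoIsPullback _ _ (isPullback_morphismRestrict c O).flip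
    have he : c ∣_ O = e.inv := by
      rw [← Category.comp_id e.inv]
      exact (IsPullback.isoIsPullback_inv_snd _ _ _ _).symm
    rw [he]
    infer_instance
  haveI : IsFinite σ := (IsFinite.SpecMap_iff _).2 (RingHom.finite_algebraMap.2 inferInstance)
  haveI hcfin : IsFinite c := by
    refine IsZariskiLocalAtTarget.of_forall_exists_morphismRestrict (P := @IsFinite) fun y => ?_
    rcases hcovX y with h | h
    · refine ⟨hW.fromSpec.opensRange, h, ?_⟩
      rw [← MorphismProperty.arrow_mk_iso_iff @IsFinite (morphismRestrictOpensRange c hW.fromSpec).symm]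
      let e := hp1.flip.isoPullback
      have : pullback.snd c hW.fromSpec = e.inv ≫ σ := by
        rw [Iso.eq_inv_comp]; exact hp1.flip.isoPullback_hom_snd
      show IsFinite (pullback.snd c hW.fromSpec)
      rw [this]
      infer_instance
    · rw [Scheme.Opens.range_ι] at h
      exact ⟨O, h, inferInstanceAs (IsFinite (c ∣_ O))⟩
  haveI : IsReduced T := by
    haveI : _root_.IsReduced S := isReduced_of_injective ψ hψ
    haveI : ∀ t, _root_.IsReduced (T.presheaf.stalk t) := fun t => by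
      rcases hcov t with ⟨z, rfl⟩ | ⟨y, rfl⟩
      · exact isReduced_of_injective (i1.stalkMap z).hom (ConcreteCategory.bijective_of_isIso (i1.stalkMap z)).1
      · exact isReduced_of_injective (i2.stalkMap y).hom (ConcreteCategory.bijective_of_isIso (i2.stalkMap y)).1
    exact isReduced_of_isReduced_stalk T
  haveI : IsFinite b := by
    haveI : IsFinite (b ≫ c) := by rw [hbc]; infer_instance
    exact IsFinite.of_comp b c
  haveI : Surjective b := ⟨fun t => by
    rcases hcov t with ⟨z, rfl⟩ | ⟨y, rfl⟩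
    · obtain ⟨w, rfl⟩ := hψint.comap_surjective hψ z
      exact ⟨hB.fromSpec w, by rw [← Scheme.Hom.comp_apply, hb1]; rfl⟩
    · obtain ⟨z, hz⟩ := a.surjective y.1
      have hzO : z ∈ a ⁻¹ᵁ O := by
        show a z ∈ O
        rw [hz]; exact y.2
      refine ⟨(a ⁻¹ᵁ O).ι ⟨z, hzO⟩, ?_⟩
      rw [← Scheme.Hom.comp_apply, hb2, Scheme.Hom.comp_apply]
      congr 1
      refine O.ι.isOpenEmbedding.injective ?_
      rw [← Scheme.Hom.comp_apply, morphismRestrict_ι, Scheme.Hom.comp_apply]
      exact hz⟩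
  have hnc : ¬ IsIso c := fun h => by
    have : IsIso σ := by
      haveI := h
      exact MorphismProperty.of_isPullback (P := MorphismProperty.isomorphisms Scheme) hp1.flip h
    exact hS.ne (isIso_SpecMap_iff.1 this).2
  -- the pushout square
  obtain ⟨hρ, hker, hfs⟩ := evaluation_spec hW m x rfl hxW
  let ρ : Γ(Y, W) →+* Y.residueField x := (Y.evaluation W x hxW).hom
  let J := m.asIdeal.map φ
  let χ : Y.residueField x →+* S ⧸ J :=
    ((Ideal.quotientMap J φ Ideal.le_comap_map).comp (Ideal.quotEquivOfEq hker).toRingHom).comp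
      (RingHom.quotientKerEquivOfSurjective hρ).symm.toRingHom
  have hχ : χ.comp ρ = (Ideal.Quotient.mk J).comp φ := RingHom.ext fun r => by
    show (Ideal.quotientMap J φ Ideal.le_comap_map) (Ideal.quotEquivOfEq hker
      ((RingHom.quotientKerEquivOfSurjective hρ).symm (ρ r))) = _
    rw [show (RingHom.quotientKerEquivOfSurjective hρ).symm (ρ r) = Ideal.Quotient.mk _ r from
      (RingEquiv.symm_apply_eq _).2 rfl]
    rfl
  letI : Algebra (Y.residueField x) (S ⧸ J) := χ.toAlgebra
  haveI : IsSimpleOrder (Subalgebra (Y.residueField x) (S ⧸ J)) := hS.isSimpleOrder ρ hρ hχ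
  have hfib := hS.isFib ρ hρ hker χ hχ
  let j : Spec (CommRingCat.of (S ⧸ J)) ⟶ T := sp (Ideal.Quotient.mk J) ≫ i1
  haveI : IsClosedImmersion (sp (Ideal.Quotient.mk J)) :=
    IsClosedImmersion.spec_of_surjective _ Ideal.Quotient.mk_surjective
  have hjc : j ≫ c = sp χ ≫ Y.fromSpecResidueField x := by
    show (sp (Ideal.Quotient.mk J) ≫ i1) ≫ c = _
    rw [Category.assoc, hc1, hfs]
    show sp (Ideal.Quotient.mk J) ≫ sp φ ≫ hW.fromSpec = sp χ ≫ sp ρ ≫ hW.fromSpec
    rw [← Category.assoc, ← Category.assoc, sp_comp, sp_comp, hfib.comm]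
  haveI : IsClosedImmersion j := by
    haveI : IsPreimmersion j := inferInstanceAs (IsPreimmersion (sp (Ideal.Quotient.mk J) ≫ i1))
    refine IsClosedImmersion.of_isPreimmersion j ?_
    have : Set.range j = c ⁻¹' {x} := by
      refine Set.Subset.antisymm ?_ fun t ht => ?_
      · rintro _ ⟨z, rfl⟩
        show c (j z) = x
        rw [← Scheme.Hom.comp_apply, hjc, Scheme.Hom.comp_apply]
        exact Scheme.fromSpecResidueField_apply x _
      · obtain ⟨z, rfl⟩ : t ∈ Set.range i1 := by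
          rcases hcov t with h | ⟨y, rfl⟩
          · exact h
          · exact absurd (show y.1 = x by rw [← ht, ← Scheme.Hom.comp_apply, hc2]; rfl) y.2
        have hz : J ≤ z.asIdeal := Ideal.map_le_iff_le_comap.2 <| by
          have : σ z = m := hW.fromSpec.isOpenEmbedding.injective <| by
            have h := ht
            rw [Set.mem_preimage, ← Scheme.Hom.comp_apply, hc1] at h
            exact h
          exact (congrArg PrimeSpectrum.asIdeal this).ge
        obtain ⟨w, hw⟩ : z ∈ Set.range (PrimeSpectrum.comap (Ideal.Quotient.mk J)) := by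
          rw [_root_.range_comap_of_surjective _ _ Ideal.Quotient.mk_surjective, Ideal.mk_ker]
          exact hz
        refine ⟨w, ?_⟩
        rw [← hw]
        rfl
    rw [this]
    exact hx.preimage c.continuous
  refine ⟨⟨T, b, c, hbc, inferInstance, inferInstance, inferInstance, hcfin, hnc, fun O₀ hO₀ => ?_,
    hx, S ⧸ J, inferInstance, inferInstance, inferInstance, j, inferInstance, ?_⟩⟩
  · have hle : O₀ ≤ O := fun y hy h => hO₀ (h ▸ hy)
    have e : O.ι ''ᵁ (O.ι ⁻¹ᵁ O₀) = O₀ := by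
      rw [Scheme.Hom.image_preimage_eq_opensRange_inf, Scheme.Opens.opensRange_ι, inf_eq_right.2 hle]
    rw [← e]
    exact ((MorphismProperty.isomorphisms Scheme).arrow_mk_iso_iff (morphismRestrictRestrict c O (O.ι ⁻¹ᵁ O₀))).1
      (IsZariskiLocalAtTarget.restrict (P := MorphismProperty.isomorphisms Scheme) hcO _)
  · have hdesc : ∀ s : PushoutCocone j (sp χ), ∃ H : Y ⟶ s.pt,
        c ≫ H = s.inl ∧ Y.fromSpecResidueField x ≫ H = s.inr := fun s => by
      obtain ⟨H1, hH1, hH1'⟩ := hfib.exists_desc_hom s.inr (i1 ≫ s.inl) (by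
        rw [← Category.assoc]; exact s.condition.symm)
      obtain ⟨H, hHW, hHO⟩ := exists_glue_two hW.fromSpec O.ι hcovX H1 (i2 ≫ s.inl) (by
        have hk : pullback.fst hW.fromSpec O.ι ≫ hW.fromSpec = (pullback.snd hW.fromSpec O.ι ≫ i2) ≫ c := by
          rw [Category.assoc, hc2, pullback.condition]
        conv_lhs => rw [← hp1.lift_fst _ _ hk, Category.assoc]
        show hp1.lift _ _ hk ≫ sp φ ≫ H1 = _
        rw [hH1', ← Category.assoc, ← Category.assoc, hp1.lift_snd])
      refine ⟨H, hom_ext_two_opens i1 i2 hcov ?_ ?_, ?_⟩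
      · rw [← Category.assoc, hc1]
        show (sp φ ≫ hW.fromSpec) ≫ H = _
        rw [Category.assoc, hHW, hH1']
      · rw [← Category.assoc, hc2, hHO]
      · rw [hfs, Category.assoc, hHW]; exact hH1
    refine ⟨⟨hjc⟩, ⟨PushoutCocone.IsColimit.mk _ (fun s => (hdesc s).choose) (fun s => (hdesc s).choose_spec.1)
      (fun s => (hdesc s).choose_spec.2) fun s H hH1 hH2 => ?_⟩⟩
    obtain ⟨e1, e2⟩ := (hdesc s).choose_spec
    replace hH1 : c ≫ H = c ≫ (hdesc s).choose := hH1.trans e1.symm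
    replace hH2 : Y.fromSpecResidueField x ≫ H = Y.fromSpecResidueField x ≫ (hdesc s).choose := hH2.trans e2.symm
    generalize (hdesc s).choose = H₀ at hH1 hH2 ⊢
    refine hom_ext_two_opens hW.fromSpec O.ι hcovX (hfib.hom_ext_spec _ _ ?_ ?_) ?_
    · rw [hfs, Category.assoc, Category.assoc] at hH2
      exact hH2
    · show σ ≫ hW.fromSpec ≫ _ = σ ≫ hW.fromSpec ≫ _
      rw [← Category.assoc, ← Category.assoc, show σ ≫ hW.fromSpec = i1 ≫ c from hc1.symm,
        Category.assoc, Category.assoc, hH1]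
    · rw [← hc2, Category.assoc, Category.assoc, hH1]

end Groth.L21.PrimeChain
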