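import Groth.Agent.L21.PrimeChain.Point
import Groth.Agent.L21.PrimeChain.Mod
import Mathlib.AlgebraicGeometry.Morphisms.QuasiFinite
import Mathlib.AlgebraicGeometry.Morphisms.FiniteType
import Mathlib.CategoryTheory.ComposableArrows.Basic
import Mathlib.Data.DFinsupp.WellFounded

/-!
# A finite birational morphism of curves is a chain of pushouts along prime algebras
-/

set_option autoImplicit false
set_option linter.style.haveILetI false
set_option linter.unusedSectionVars false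
set_option backward.isDefEq.respectTransparency false
set_option backward.isDefEq.respectTransparency.types false
set_option maxHeartbeats 1000000

universe u

open CategoryTheory CategoryTheory.Limits AlgebraicGeometry

noncomputable section

namespace Groth.L21.PrimeChain

/-- A finite composite of morphisms with a given property. -/
def Rep (P : MorphismProperty Scheme.{u}) {A B : Scheme.{u}} (f : A ⟶ B) : Prop :=
  ∃ (n : ℕ) (F : ComposableArrows Scheme.{u} n) (hA : F.left = A) (hB : F.right = B),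
    eqToHom hA.symm ≫ F.hom ≫ eqToHom hB = f ∧ ∀ i : Fin n, P (F.map (homOfLE (Fin.castSucc_lt_succ (i := i)).le))

theorem rep_id (P : MorphismProperty Scheme.{u}) (B : Scheme.{u}) : Rep P (𝟙 B) :=
  ⟨0, ComposableArrows.mk₀ B, rfl, rfl, by simp [ComposableArrows.hom], fun i => i.elim0⟩

theorem Rep.cons {P : MorphismProperty Scheme.{u}} {A B C : Scheme.{u}} {c : A ⟶ B} {f : B ⟶ C} (hc : P c)
    (hf : Rep P f) : Rep P (c ≫ f) := by
  obtain ⟨n, F, rfl, rfl, rfl, hF⟩ := hf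
  refine ⟨n + 1, F.precomp c, rfl, rfl, ?_, Fin.cases ?_ fun i => ?_⟩
  · simp only [eqToHom_refl, Category.id_comp, Category.comp_id]
    cases n with
    | zero =>
      refine (Category.comp_id c).symm.trans ?_
      exact congrArg (c ≫ ·) (F.map_id 0).symm
    | succ n => rfl
  · exact hc
  · exact hF i

variable {X X' : Scheme.{u}} (β : X ⟶ X')

/-- An intermediate stage. -/
structure Stage (P : MorphismProperty Scheme.{u}) where
  /-- the intermediate scheme -/
  obj : Scheme.{u}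
  /-- from the source -/
  b : X ⟶ obj
  /-- to the target -/
  r : obj ⟶ X'
  fac : b ≫ r = β
  finite_b : IsFinite b
  surj_b : Surjective b
  reduced : IsReduced obj
  finite_r : IsFinite r
  birat : ∃ U : obj.Opens, (Uᶜ : Set obj).Finite ∧ IsIso (b ∣_ U)
  rep : Rep P r

theorem Stage.preimage_eq {P : MorphismProperty Scheme.{u}} (st : Stage β P) (W : X'.Opens) :
    β ⁻¹ᵁ W = st.b ⁻¹ᵁ (st.r ⁻¹ᵁ W) := by
  rw [← Scheme.Hom.comp_preimage, st.fac]

/-- The pullback of functions from a stage. -/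
def Stage.sec {P : MorphismProperty Scheme.{u}} (st : Stage β P) (W : X'.Opens) :
    Γ(st.obj, st.r ⁻¹ᵁ W) ⟶ Γ(X, β ⁻¹ᵁ W) :=
  st.b.appLE (st.r ⁻¹ᵁ W) (β ⁻¹ᵁ W) (st.preimage_eq β W).le

/-- A finite surjective morphism to a reduced Jacobson Noetherian scheme which is an isomorphism outside
finitely many points factors as an isomorphism and a chain of pushouts along prime algebras. -/
theorem exists_chain [IsFinite β] [Surjective β] [IsReduced X] [IsReduced X'] [IsLocallyNoetherian X']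
    [CompactSpace X'] [JacobsonSpace X'] (U : X'.Opens) (hU : (Uᶜ : Set X').Finite) [IsIso (β ∣_ U)]
    (P : MorphismProperty Scheme.{u})
    (hP : ∀ {Y Y' : Scheme.{u}} (b : X ⟶ Y') (c : Y' ⟶ Y) (r : Y ⟶ X') (x : Y), b ≫ c ≫ r = β →
      Surjective b → IsStep c x → P c) :
    ∃ (Y : Scheme.{u}) (b : X ⟶ Y) (r : Y ⟶ X'), IsIso b ∧ b ≫ r = β ∧ Rep P r := by
  classical
  choose! Wf hWf hmem using fun y : X' =>
    (show ∃ W : X'.Opens, IsAffineOpen W ∧ y ∈ W by
      obtain ⟨_, ⟨W, hW, rfl⟩, hyW, -⟩ :=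
        X'.isBasis_affineOpens.exists_subset_of_mem_open (Set.mem_univ y) isOpen_univ
      exact ⟨W, hW, hyW⟩)
  obtain ⟨t, ht⟩ := isCompact_univ.elim_finite_subcover (fun y => (Wf y : Set X')) (fun y => (Wf y).isOpen)
    fun y _ => Set.mem_iUnion.2 ⟨y, hmem y⟩
  haveI : ∀ y, IsNoetherianRing Γ(X', Wf y) := fun y => IsLocallyNoetherian.component_noetherian ⟨_, hWf y⟩
  letI mods : ∀ y, Module Γ(X', Wf y) Γ(X, β ⁻¹ᵁ Wf y) := fun y => (β.app (Wf y)).hom.toAlgebra.toModule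
  haveI : ∀ y, Module.Finite Γ(X', Wf y) Γ(X, β ⁻¹ᵁ Wf y) := fun y => β.finite_app (Wf y) (hWf y)
  haveI : ∀ y, IsNoetherian Γ(X', Wf y) Γ(X, β ⁻¹ᵁ Wf y) := fun y => inferInstance
  let M : ∀ (st : Stage β P) (y : t), Submodule Γ(X', Wf y.1) Γ(X, β ⁻¹ᵁ Wf y.1) := fun st y =>
    { carrier := Set.range (st.sec β (Wf y.1)).hom
      add_mem' := by rintro _ _ ⟨p, rfl⟩ ⟨q, rfl⟩; exact ⟨p + q, map_add _ _ _⟩
      zero_mem' := ⟨0, map_zero _⟩
      smul_mem' := by
        rintro c _ ⟨p, rfl⟩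
        refine ⟨(st.r.app (Wf y.1)).hom c * p, ?_⟩
        rw [map_mul]
        congr 1
        show (st.b.appLE _ _ _).hom ((st.r.app _).hom c) = (β.app _).hom c
        rw [← CommRingCat.comp_apply, Scheme.Hom.app_eq_appLE, Scheme.Hom.appLE_comp_appLE, Scheme.Hom.app_eq_appLE]
        simp only [st.fac] }
  let st0 : Stage β P := ⟨X', β, 𝟙 X', Category.comp_id β, inferInstance, inferInstance, inferInstance, inferInstance,
    ⟨U, hU, inferInstance⟩, rep_id P X'⟩
  haveI : WellFoundedGT (∀ y : t, Submodule Γ(X', Wf y.1) Γ(X, β ⁻¹ᵁ Wf y.1)) :=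
    ⟨InvImage.wf (fun (f : ∀ y : t, Submodule Γ(X', Wf y.1) Γ(X, β ⁻¹ᵁ Wf y.1)) (y : t) => OrderDual.toDual (f y))
      (wellFounded_lt (α := ∀ y : t, (Submodule Γ(X', Wf y.1) Γ(X, β ⁻¹ᵁ Wf y.1))ᵒᵈ))⟩
  obtain ⟨st, -, hmax⟩ := (InvImage.wf M (wellFounded_gt (α := ∀ y : t,
    Submodule Γ(X', Wf y.1) Γ(X, β ⁻¹ᵁ Wf y.1)))).has_min Set.univ ⟨st0, trivial⟩
  refine ⟨st.obj, st.b, st.r, ?_, st.fac, st.rep⟩
  by_contra hne
  haveI := st.finite_b; haveI := st.surj_b; haveI := st.reduced; haveI := st.finite_r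
  obtain ⟨V, hV, hViso⟩ := st.birat
  haveI := hViso
  haveI : IsLocallyNoetherian st.obj := LocallyOfFiniteType.isLocallyNoetherian st.r
  haveI : JacobsonSpace st.obj := LocallyOfFiniteType.jacobsonSpace st.r
  haveI : IsSchemeTheoreticallyDominant st.b := IsSchemeTheoreticallyDominant.of_isDominant _
  obtain ⟨W, hW, m, hm, hcl, b₀, hb₀, hmb⟩ := exists_point st.b V hV hne
  haveI := hm
  haveI : IsNoetherianRing Γ(st.obj, W) := IsLocallyNoetherian.component_noetherian ⟨W, hW⟩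
  letI : Algebra Γ(st.obj, W) Γ(X, st.b ⁻¹ᵁ W) := (st.b.app W).hom.toAlgebra
  haveI : Module.Finite Γ(st.obj, W) Γ(X, st.b ⁻¹ᵁ W) := st.b.finite_app W hW
  obtain ⟨S, hS, hSle, hSmin⟩ := exists_minimal (A := Γ(st.obj, W)) (B := Γ(X, st.b ⁻¹ᵁ W))
    (st.b.app_injective W) m.asIdeal hb₀ hmb
  have hSmini := isMinimal_of (st.b.app_injective W) hS hSle hSmin
  haveI : Module.Finite Γ(st.obj, W) S := inferInstanceAs (Module.Finite _ (Subalgebra.toSubmodule S))
  obtain ⟨D⟩ := exists_modif st.b hW m hcl S hSmini S.val.toRingHom Subtype.val_injective rfl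
  haveI := D.finite_b; haveI := D.surj_b; haveI := D.finite_c; haveI := D.reduced
  have hO : hW.fromSpec m ∉ (V ⊓ ⟨({hW.fromSpec m} : Set st.obj)ᶜ, hcl.isOpen_compl⟩ : st.obj.Opens) :=
    fun h => h.2 rfl
  set V' : st.obj.Opens := V ⊓ ⟨({hW.fromSpec m} : Set st.obj)ᶜ, hcl.isOpen_compl⟩ with hV'
  let st' : Stage β P := ⟨D.obj, D.b, D.c ≫ st.r, by rw [← Category.assoc, D.fac, st.fac], D.finite_b, D.surj_b,
    D.reduced, inferInstance, ⟨D.c ⁻¹ᵁ V', by
      have : ((D.c ⁻¹ᵁ V' : D.obj.Opens) : Set D.obj)ᶜ = D.c ⁻¹' ((V' : Set st.obj)ᶜ) := rfl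
      rw [this]
      refine D.c.finite_preimage ?_
      rw [hV', TopologicalSpace.Opens.coe_inf, Set.compl_inter]
      exact hV.union (by simp), by
      haveI := D.iso_away V' hO
      haveI : IsIso (st.b ∣_ V') := by
        haveI := hViso
        have hle : V' ≤ V := inf_le_left
        have e : V.ι ''ᵁ (V.ι ⁻¹ᵁ V') = V' := by
          rw [Scheme.Hom.image_preimage_eq_opensRange_inf, Scheme.Opens.opensRange_ι, inf_eq_right.2 hle]
        rw [← e]
        exact ((MorphismProperty.isomorphisms Scheme).arrow_mk_iso_iff (morphismRestrictRestrict st.b V (V.ι ⁻¹ᵁ V'))).1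
          (IsZariskiLocalAtTarget.restrict (P := MorphismProperty.isomorphisms Scheme) hViso _)
      have : IsIso ((D.b ≫ D.c) ∣_ V') := by rw [D.fac]; infer_instance
      rw [morphismRestrict_comp] at this
      exact IsIso.of_isIso_comp_right (D.b ∣_ (D.c ⁻¹ᵁ V')) (D.c ∣_ V')⟩,
    st.rep.cons (hP D.b D.c st.r _ (by rw [← Category.assoc, D.fac, st.fac]) D.surj_b D.step)⟩
  haveI : IsSchemeTheoreticallyDominant D.b := IsSchemeTheoreticallyDominant.of_isDominant _
  have key : ∀ W' : X'.Opens, st.sec β W' = D.c.app (st.r ⁻¹ᵁ W') ≫ st'.sec β W' := fun W' => by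
    rw [Scheme.Hom.app_eq_appLE, Stage.sec, Stage.sec]
    show _ = D.c.appLE _ _ _ ≫ D.b.appLE (D.c ⁻¹ᵁ (st.r ⁻¹ᵁ W')) (β ⁻¹ᵁ W') _
    rw [Scheme.Hom.appLE_comp_appLE]
    simp only [D.fac]
  have hle : M st ≤ M st' := fun y => by
    rintro _ ⟨p, rfl⟩
    exact ⟨(D.c.app (st.r ⁻¹ᵁ Wf y.1)).hom p, by rw [key]; rfl⟩
  refine hmax st' trivial (lt_of_le_of_ne hle fun heq => D.not_iso ?_)
  refine IsZariskiLocalAtTarget.of_forall_exists_morphismRestrict (P := MorphismProperty.isomorphisms Scheme)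
    fun z => ?_
  obtain ⟨y, hy⟩ := Set.mem_iUnion.1 (ht (Set.mem_univ (st.r z)))
  obtain ⟨hyt, hy⟩ := Set.mem_iUnion.1 hy
  refine ⟨st.r ⁻¹ᵁ Wf y, hy, (isIso_morphismRestrict_iff_isIso_app D.c ((hWf y).preimage st.r)).2 ?_⟩
  rw [ConcreteCategory.isIso_iff_bijective]
  have hinj : Function.Injective (st'.sec β (Wf y)).hom := by
    intro p q h
    refine D.b.app_injective (D.c ⁻¹ᵁ (st.r ⁻¹ᵁ Wf y)) ?_
    have e : β ⁻¹ᵁ Wf y = D.b ⁻¹ᵁ (D.c ⁻¹ᵁ (st.r ⁻¹ᵁ Wf y)) := st'.preimage_eq β (Wf y)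
    haveI : IsIso (X.presheaf.map (homOfLE e.le).op) := by
      rw [show homOfLE e.le = eqToHom e from rfl]; infer_instance
    exact (ConcreteCategory.bijective_of_isIso (X.presheaf.map (homOfLE e.le).op)).1 h
  refine ⟨?_, fun q => ?_⟩
  · intro p p' h
    have h' : (st.sec β (Wf y)).hom p = (st.sec β (Wf y)).hom p' := by
      rw [key]
      exact congrArg (st'.sec β (Wf y)).hom h
    refine st.b.app_injective (st.r ⁻¹ᵁ Wf y) ?_
    have e : β ⁻¹ᵁ Wf y = st.b ⁻¹ᵁ (st.r ⁻¹ᵁ Wf y) := st.preimage_eq β (Wf y)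
    haveI : IsIso (X.presheaf.map (homOfLE e.le).op) := by
      rw [show homOfLE e.le = eqToHom e from rfl]; infer_instance
    exact (ConcreteCategory.bijective_of_isIso (X.presheaf.map (homOfLE e.le).op)).1 h'
  · obtain ⟨p, hp⟩ := (SetLike.ext_iff.1 (congrFun heq ⟨y, hyt⟩) ((st'.sec β (Wf y)).hom q)).2 ⟨q, rfl⟩
    refine ⟨p, hinj ?_⟩
    rw [← hp, key]
    rfl

end Groth.L21.PrimeChain
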