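import Groth.Agent.L21.PrimeChain.Prelim
import Mathlib.AlgebraicGeometry.Morphisms.Finite
import Mathlib.AlgebraicGeometry.Morphisms.IsIso
import Mathlib.AlgebraicGeometry.Noetherian

/-!
# A point at which a finite birational morphism is not an isomorphism
-/

set_option autoImplicit false
set_option linter.style.haveILetI false
set_option backward.isDefEq.respectTransparency false
set_option backward.isDefEq.respectTransparency.types false
set_option maxHeartbeats 800000

universe u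

open CategoryTheory CategoryTheory.Limits AlgebraicGeometry

noncomputable section

namespace Groth.L21.PrimeChain

theorem isIso_app_of_le {X Y : Scheme.{u}} (f : X ⟶ Y) (U : Y.Opens) [IsIso (f ∣_ U)] {V : Y.Opens} (h : V ≤ U) :
    IsIso (f.app V) := by
  have e : U.ι ''ᵁ (U.ι ⁻¹ᵁ V) = V := by
    rw [Scheme.Hom.image_preimage_eq_opensRange_inf, Scheme.Opens.opensRange_ι, inf_eq_right.2 h]
  have h1 : IsIso ((f ∣_ U).app (U.ι ⁻¹ᵁ V)) := inferInstance
  rw [morphismRestrict_app] at h1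
  haveI := h1
  have h2 : IsIso (f.app (U.ι ''ᵁ (U.ι ⁻¹ᵁ V))) := IsIso.of_isIso_comp_right (f.app (U.ι ''ᵁ (U.ι ⁻¹ᵁ V))) (X.presheaf.map (eqToHom (image_morphismRestrict_preimage f U (U.ι ⁻¹ᵁ V))).op)
  rwa [e] at h2

variable {X Y : Scheme.{u}} (a : X ⟶ Y)

/-- Over a basic open on which `a` is an isomorphism every section is, up to a power, a pullback. -/
theorem exists_pow_mul_mem [IsAffineHom a] {W : Y.Opens} (hW : IsAffineOpen W) (r : Γ(Y, W))
    [IsIso (a.app (Y.basicOpen r))] (b : Γ(X, a ⁻¹ᵁ W)) :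
    ∃ n : ℕ, (a.app W).hom r ^ n * b ∈ (a.app W).hom.range := by
  let q : Γ(X, a ⁻¹ᵁ W) →+* Γ(X, a ⁻¹ᵁ Y.basicOpen r) :=
    (X.presheaf.map (homOfLE (a.preimage_mono (Y.basicOpen_le r))).op).hom
  have hnat : ∀ t, (a.app (Y.basicOpen r)).hom ((Y.presheaf.map (homOfLE (Y.basicOpen_le r)).op).hom t) =
      q ((a.app W).hom t) := fun t =>
    ConcreteCategory.congr_hom (a.naturality (homOfLE (Y.basicOpen_le r)).op) t
  have hsurj : Function.Surjective (a.app (Y.basicOpen r)).hom :=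
    (ConcreteCategory.bijective_of_isIso (a.app (Y.basicOpen r))).2
  obtain ⟨α, hα⟩ := hsurj (q b)
  letI : Algebra Γ(Y, W) Γ(Y, Y.basicOpen r) := (Y.presheaf.map (homOfLE (Y.basicOpen_le r)).op).hom.toAlgebra
  haveI : IsLocalization.Away r Γ(Y, Y.basicOpen r) := hW.isLocalization_basicOpen r
  obtain ⟨⟨t, ⟨_, n, rfl⟩⟩, ht⟩ := IsLocalization.surj (Submonoid.powers r) α
  have h0 : q ((a.app W).hom r ^ n * b - (a.app W).hom t) = 0 := by
    rw [map_sub, map_mul, ← map_pow, ← hnat, ← hnat, ← hα, ← map_mul, sub_eq_zero]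
    refine congrArg _ ?_
    rw [mul_comm]
    exact ht
  letI : Algebra Γ(X, a ⁻¹ᵁ W) Γ(X, X.basicOpen ((a.app W).hom r)) :=
    (X.presheaf.map (homOfLE (X.basicOpen_le _)).op).hom.toAlgebra
  haveI : IsLocalization.Away ((a.app W).hom r) Γ(X, X.basicOpen ((a.app W).hom r)) :=
    (hW.preimage a).isLocalization_basicOpen _
  have h1 : algebraMap Γ(X, a ⁻¹ᵁ W) Γ(X, X.basicOpen ((a.app W).hom r))
      ((a.app W).hom r ^ n * b - (a.app W).hom t) = 0 := by
    have h2 := congrArg (X.presheaf.map (homOfLE (a.preimage_basicOpen r).ge).op).hom h0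
    rw [map_zero] at h2
    refine Eq.trans ?_ h2
    show _ = (X.presheaf.map _).hom ((X.presheaf.map _).hom _)
    rw [← CommRingCat.comp_apply, ← Functor.map_comp]
    rfl
  obtain ⟨⟨_, k, rfl⟩, hk⟩ := (IsLocalization.map_eq_zero_iff (Submonoid.powers ((a.app W).hom r))
    Γ(X, X.basicOpen ((a.app W).hom r)) _).1 h1
  refine ⟨k + n, r ^ k * t, ?_⟩
  replace hk : (a.app W).hom r ^ k * ((a.app W).hom r ^ n * b - (a.app W).hom t) = 0 := hk
  rw [map_mul, map_pow]
  linear_combination -hk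

/-- A finite morphism which is an isomorphism outside finitely many points and is not an isomorphism
has, over an affine open, a section which is killed into the base by a maximal ideal at a closed point. -/
theorem exists_point [IsFinite a] [IsSchemeTheoreticallyDominant a] [IsLocallyNoetherian Y] [JacobsonSpace Y]
    (U : Y.Opens) (hU : (Uᶜ : Set Y).Finite) [IsIso (a ∣_ U)] (hne : ¬ IsIso a) :
    ∃ (W : Y.Opens) (hW : IsAffineOpen W) (m : PrimeSpectrum Γ(Y, W)),
      m.asIdeal.IsMaximal ∧ IsClosed ({hW.fromSpec m} : Set Y) ∧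
      ∃ b : Γ(X, a ⁻¹ᵁ W), b ∉ (a.app W).hom.range ∧
        ∀ c ∈ m.asIdeal, (a.app W).hom c * b ∈ (a.app W).hom.range := by
  obtain ⟨W, hW, hbad⟩ : ∃ (W : Y.Opens), IsAffineOpen W ∧ ¬ Function.Surjective (a.app W).hom := by
    by_contra hc
    push Not at hc
    refine hne (IsZariskiLocalAtTarget.of_forall_exists_morphismRestrict (P := MorphismProperty.isomorphisms Scheme) fun y => ?_)
    obtain ⟨_, ⟨W, hW, rfl⟩, hyW, -⟩ := Y.isBasis_affineOpens.exists_subset_of_mem_open (Set.mem_univ y) isOpen_univ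
    refine ⟨W, hyW, (isIso_morphismRestrict_iff_isIso_app a hW).2 ?_⟩
    rw [ConcreteCategory.isIso_iff_bijective]
    exact ⟨a.app_injective W, hc W hW⟩
  haveI : IsNoetherianRing Γ(Y, W) := IsLocallyNoetherian.component_noetherian ⟨W, hW⟩
  let R := (a.app W).hom.range
  let ann : Γ(X, a ⁻¹ᵁ W) → Ideal Γ(Y, W) := fun b =>
    { carrier := {c | (a.app W).hom c * b ∈ R}
      add_mem' := fun {c d} hc hd => by
        show (a.app W).hom (c + d) * b ∈ R
        rw [map_add, add_mul]; exact R.add_mem hc hd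
      zero_mem' := by
        show (a.app W).hom 0 * b ∈ R
        rw [map_zero, zero_mul]; exact R.zero_mem
      smul_mem' := fun c d hd => by
        show (a.app W).hom (c * d) * b ∈ R
        rw [map_mul, mul_assoc]; exact R.mul_mem ⟨c, rfl⟩ hd }
  have hann : ∀ {b c}, c ∈ ann b ↔ (a.app W).hom c * b ∈ R := Iff.rfl
  obtain ⟨b₀, hb₀⟩ : ∃ b, b ∉ R := by
    simp only [Function.Surjective, not_forall] at hbad
    obtain ⟨b, hb⟩ := hbad
    exact ⟨b, fun ⟨c, hc⟩ => hb ⟨c, hc⟩⟩
  obtain ⟨I, ⟨b, hb, rfl⟩, hmax⟩ := set_has_maximal_iff_noetherian.2 (inferInstanceAs (IsNoetherianRing Γ(Y, W)))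
    {I | ∃ b, b ∉ R ∧ ann b = I} ⟨_, b₀, hb₀, rfl⟩
  have h1 : ann b ≠ ⊤ := fun h => hb <| by
    have := hann.1 (h ▸ Submodule.mem_top : (1 : Γ(Y, W)) ∈ ann b)
    rwa [map_one, one_mul] at this
  have hprime : (ann b).IsPrime := by
    refine ⟨h1, fun {s t} hst => or_iff_not_imp_right.2 fun ht => ?_⟩
    have hle : ann b ≤ ann ((a.app W).hom t * b) := fun c hc => by
      rw [hann, mul_left_comm]
      exact R.mul_mem ⟨t, rfl⟩ (hann.1 hc)
    have := eq_of_le_of_not_lt hle (hmax _ ⟨_, fun h => ht (hann.2 h), rfl⟩)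
    rw [this, hann, ← mul_assoc, ← map_mul]
    exact hann.1 hst
  let m : PrimeSpectrum Γ(Y, W) := ⟨ann b, hprime⟩
  have hmU : hW.fromSpec m ∉ U := by
    intro hmU
    have hmW : hW.fromSpec m ∈ W := by
      have : hW.fromSpec m ∈ Set.range hW.fromSpec := ⟨m, rfl⟩
      rwa [hW.range_fromSpec] at this
    obtain ⟨r, hrU, hmr⟩ := hW.exists_basicOpen_le (V := U) ⟨hW.fromSpec m, hmU⟩ hmW
    haveI := isIso_app_of_le a U hrU
    obtain ⟨n, hn⟩ := exists_pow_mul_mem a hW r b
    have h2 : m ∈ hW.fromSpec ⁻¹ᵁ Y.basicOpen r := hmr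
    rw [hW.fromSpec_preimage_basicOpen] at h2
    refine h2 (hprime.mem_of_pow_mem n (hann.2 ?_))
    rwa [map_pow]
  have hcl : IsClosed ({hW.fromSpec m} : Set Y) :=
    isClosed_singleton_of_finite U.isOpen.isClosed_compl hU hmU
  refine ⟨W, hW, m, ?_, hcl, b, hb, fun c hc => hc⟩
  rw [← PrimeSpectrum.isClosed_singleton_iff_isMaximal]
  have := hcl.preimage hW.fromSpec.continuous
  rwa [← Set.image_singleton, Set.preimage_image_eq _ hW.fromSpec.isOpenEmbedding.injective] at this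

end Groth.L21.PrimeChain
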