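import Groth.Agent.L21.PrimeChain.SnAlgebra
import Groth.Agent.L21.PrimeChain.Point
import Groth.Agent.L21.PrimeChain.Mod
import Groth.Agent.L22.SchemeDim
import Groth.Agent.L18.NormalizationField
import Groth.Agent.L01.NagataFiniteType
import Groth.Agent.L28.AWN.Local
import Groth.Agent.L28.AWN.SNorm
import Groth.Agent.L28.AWN.FiniteFactor
import Groth.Agent.L22.ExtSh.PushCodim
import Mathlib.AlgebraicGeometry.Morphisms.FiniteType

/-!
# Seminormalizations of curves are finite and birational; dual-number steps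
-/

set_option autoImplicit false
set_option linter.style.haveILetI false
set_option linter.unusedSectionVars false
set_option backward.isDefEq.respectTransparency false
set_option backward.isDefEq.respectTransparency.types false
set_option maxHeartbeats 1000000

universe u

open CategoryTheory CategoryTheory.Limits AlgebraicGeometry

noncomputable section

namespace Groth.L21.PrimeChain

variable {C C' : Scheme.{u}}

/-- The morphism on the rings of an affine open of a universal homeomorphism with trivial residue extensions. -/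
theorem isUH_app {ν : C' ⟶ C} (hν : FlatMor.IsUnivHomeo ν) (hres : HTop.ResidueFieldsIso ν)
    {W : C.Opens} (hW : IsAffineOpen W) :
    Groth.L28.AWN.IsUH (ν.app W).hom ∧ HTop.ResidueFieldsIso (Spec.map (ν.app W)) := by
  haveI := Groth.L20.isAffineHom_of_isUnivHomeo hν
  have sq : IsPullback (Spec.map (ν.app W)) (hW.preimage ν).fromSpec hW.fromSpec ν := by
    refine IsOpenImmersion.isPullback _ _ _ _ ?_ ?_
    · rw [Scheme.Hom.app_eq_appLE, IsAffineOpen.SpecMap_appLE_fromSpec ν hW (hW.preimage ν) le_rfl]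
    · rw [IsAffineOpen.opensRange_fromSpec, IsAffineOpen.opensRange_fromSpec]
  have : MorphismProperty.IsStableUnderBaseChange (FlatMor.IsUnivHomeo.{u}) :=
    MorphismProperty.universally_isStableUnderBaseChange _
  refine ⟨(Groth.L28.AWN.isUnivHomeo_iff_isUH (ν.app W).hom).1 ?_, fun y => ?_⟩
  · exact MorphismProperty.of_isPullback sq.flip hν
  · have h2 : IsIso ((Spec.map (ν.app W) ≫ hW.fromSpec).residueFieldMap y) := by
      rw [Scheme.Hom.residueFieldMap_congr sq.w]
      have : IsIso (((hW.preimage ν).fromSpec ≫ ν).residueFieldMap y) := by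
        rw [Scheme.residueFieldMap_comp]
        exact IsIso.comp_isIso' (hres _) inferInstance
      exact IsIso.comp_isIso' inferInstance this
    rw [Scheme.residueFieldMap_comp] at h2
    exact @IsIso.of_isIso_comp_left _ _ _ _ _ (hW.fromSpec.residueFieldMap _) _ inferInstance h2

variable {κ : Type u} [Field κ] (g : C ⟶ Spec (CommRingCat.of κ)) [LocallyOfFiniteType g] [QuasiCompact g]
  [IsReduced C] [IsReduced C']

include g in
omit [IsReduced C] [QuasiCompact g] in
theorem isNagata_app (W : C.Opens) (hW : IsAffineOpen W) : CAlg.IsNagata Γ(C, W) := by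
  letI : C.Over (Spec (CommRingCat.of κ)) := ⟨g⟩
  haveI : LocallyOfFiniteType (C ↘ Spec (CommRingCat.of κ)) := ‹LocallyOfFiniteType g›
  letI : Algebra κ Γ(C, W) := (Groth.L22.SchemeDim.sectHom κ C W).toAlgebra
  haveI : Algebra.FiniteType κ Γ(C, W) :=
    RingHom.finiteType_algebraMap.1 (Groth.L22.SchemeDim.finiteType_sectHom κ C hW)
  exact Groth.L01.Nagata.isNagata_of_finiteType (R := κ) (Groth.L18.NormField.isNagata_field κ)

include g in
/-- A universal homeomorphism with trivial residue extensions from a reduced scheme to a reduced curve is finite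
and an isomorphism outside finitely many points. -/
theorem finite_birational (hdim : topologicalKrullDim C ≤ 1) (ν : C' ⟶ C) (hν : FlatMor.IsUnivHomeo ν)
    (hres : HTop.ResidueFieldsIso ν) :
    IsFinite ν ∧ ∃ U : C.Opens, (Uᶜ : Set C).Finite ∧ IsIso (ν ∣_ U) := by
  haveI := Groth.L20.isAffineHom_of_isUnivHomeo hν
  haveI : CompactSpace C := QuasiCompact.compactSpace_of_compactSpace g
  have hmain : ∀ (W : C.Opens), IsAffineOpen W →
      (ν.app W).hom.Finite ∧ ∃ I : Ideal Γ(C, W), (∀ a ∈ I, ∀ b, (ν.app W).hom a * b ∈ (ν.app W).hom.range) ∧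
        {q : PrimeSpectrum Γ(C, W) | I ≤ q.asIdeal}.Finite := by
    intro W hW
    obtain ⟨huh, hr⟩ := isUH_app hν hres hW
    have hd : ringKrullDim Γ(C, W) ≤ 1 := by
      rw [← PrimeSpectrum.topologicalKrullDim_eq_ringKrullDim]
      exact (hW.fromSpec.isOpenEmbedding.isInducing.topologicalKrullDim_le).trans hdim
    letI := (ν.app W).hom.toAlgebra
    exact ⟨finite_of_isUH (isNagata_app g W hW) huh hr, exists_conductor (isNagata_app g W hW) hd huh hr⟩
  haveI hfin : IsFinite ν := ⟨fun W hW => (hmain W hW).1⟩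
  refine ⟨hfin, ⨆ V : {V : C.Opens // IsIso (ν ∣_ V)}, V.1, ?_, ?_⟩
  · choose! Wf hWf hmem using fun y : C =>
      (show ∃ W : C.Opens, IsAffineOpen W ∧ y ∈ W by
        obtain ⟨_, ⟨W, hW, rfl⟩, hyW, -⟩ :=
          C.isBasis_affineOpens.exists_subset_of_mem_open (Set.mem_univ y) isOpen_univ
        exact ⟨W, hW, hyW⟩)
    obtain ⟨t, ht⟩ := isCompact_univ.elim_finite_subcover (fun y => (Wf y : Set C)) (fun y => (Wf y).isOpen)
      fun y _ => Set.mem_iUnion.2 ⟨y, hmem y⟩
    choose I hI hIfin using fun y => (hmain (Wf y) (hWf y)).2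
    refine (t.finite_toSet.biUnion fun y _ => (hIfin y).image (hWf y).fromSpec).subset fun z hz => ?_
    obtain ⟨y, hy⟩ := Set.mem_iUnion.1 (ht (Set.mem_univ z))
    obtain ⟨hyt, hy⟩ := Set.mem_iUnion.1 hy
    obtain ⟨q, rfl⟩ : z ∈ Set.range (hWf y).fromSpec := by rw [(hWf y).range_fromSpec]; exact hy
    refine Set.mem_biUnion hyt ⟨q, ?_, rfl⟩
    by_contra hq
    obtain ⟨s, hsI, hsq⟩ := SetLike.not_le_iff_exists.1 (show ¬ I y ≤ q.asIdeal from hq)
    have hinj : Function.Injective (ν.app (C.basicOpen s)).hom := by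
      haveI : Surjective ν := ⟨(Groth.L20.isHomeomorph_of_isUnivHomeo hν).surjective⟩
      haveI : IsSchemeTheoreticallyDominant ν := IsSchemeTheoreticallyDominant.of_isDominant _
      exact ν.app_injective _
    have hsurj : Function.Surjective (ν.app (C.basicOpen s)).hom := by
      intro w
      let ρ : Γ(C', ν ⁻¹ᵁ Wf y) →+* Γ(C', ν ⁻¹ᵁ C.basicOpen s) :=
        (C'.presheaf.map (homOfLE (ν.preimage_mono (C.basicOpen_le s))).op).hom
      have hnat : ∀ r, (ν.app (C.basicOpen s)).hom ((C.presheaf.map (homOfLE (C.basicOpen_le s)).op).hom r) =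
          ρ ((ν.app (Wf y)).hom r) := fun r =>
        ConcreteCategory.congr_hom (ν.naturality (homOfLE (C.basicOpen_le s)).op) r
      letI : Algebra Γ(C', ν ⁻¹ᵁ Wf y) Γ(C', C'.basicOpen ((ν.app (Wf y)).hom s)) :=
        (C'.presheaf.map (homOfLE (C'.basicOpen_le _)).op).hom.toAlgebra
      haveI : IsLocalization.Away ((ν.app (Wf y)).hom s) Γ(C', C'.basicOpen ((ν.app (Wf y)).hom s)) :=
        ((hWf y).preimage ν).isLocalization_basicOpen _
      let e : Γ(C', ν ⁻¹ᵁ C.basicOpen s) →+* Γ(C', C'.basicOpen ((ν.app (Wf y)).hom s)) :=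
        (C'.presheaf.map (homOfLE (ν.preimage_basicOpen s).ge).op).hom
      have he : Function.Bijective e := by
        haveI : IsIso (C'.presheaf.map (homOfLE (ν.preimage_basicOpen s).ge).op) := by
          rw [show homOfLE (ν.preimage_basicOpen s).ge = eqToHom (ν.preimage_basicOpen s).symm from rfl]
          infer_instance
        exact ConcreteCategory.bijective_of_isIso (C'.presheaf.map (homOfLE (ν.preimage_basicOpen s).ge).op)
      have heρ : ∀ r, e (ρ r) = algebraMap Γ(C', ν ⁻¹ᵁ Wf y) Γ(C', C'.basicOpen ((ν.app (Wf y)).hom s)) r := fun r => by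
        show (C'.presheaf.map _).hom ((C'.presheaf.map _).hom r) = _
        rw [← CommRingCat.comp_apply, ← Functor.map_comp]
        rfl
      obtain ⟨⟨b, ⟨_, n, rfl⟩⟩, hb⟩ := IsLocalization.surj (Submonoid.powers ((ν.app (Wf y)).hom s)) (e w)
      obtain ⟨a, ha⟩ := hI y s hsI b
      letI : Algebra Γ(C, Wf y) Γ(C, C.basicOpen s) := (C.presheaf.map (homOfLE (C.basicOpen_le s)).op).hom.toAlgebra
      haveI : IsLocalization.Away s Γ(C, C.basicOpen s) := (hWf y).isLocalization_basicOpen s
      refine ⟨IsLocalization.mk' _ a (⟨s ^ (n + 1), n + 1, rfl⟩ : Submonoid.powers s), he.1 ?_⟩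
      have hu := IsLocalization.map_units Γ(C', C'.basicOpen ((ν.app (Wf y)).hom s))
        (⟨(ν.app (Wf y)).hom s ^ (n + 1), n + 1, rfl⟩ : Submonoid.powers ((ν.app (Wf y)).hom s))
      refine hu.mul_left_inj.1 ?_
      let F := e.comp (ν.app (C.basicOpen s)).hom
      have hF : ∀ r, F (algebraMap Γ(C, Wf y) Γ(C, C.basicOpen s) r) =
          algebraMap Γ(C', ν ⁻¹ᵁ Wf y) Γ(C', C'.basicOpen ((ν.app (Wf y)).hom s)) ((ν.app (Wf y)).hom r) := fun r => by
        show e ((ν.app (C.basicOpen s)).hom ((C.presheaf.map (homOfLE (C.basicOpen_le s)).op).hom r)) = _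
        rw [hnat, heρ]
      show F _ * algebraMap Γ(C', ν ⁻¹ᵁ Wf y) Γ(C', C'.basicOpen ((ν.app (Wf y)).hom s)) ((ν.app (Wf y)).hom s ^ (n + 1)) =
        e w * algebraMap Γ(C', ν ⁻¹ᵁ Wf y) Γ(C', C'.basicOpen ((ν.app (Wf y)).hom s)) ((ν.app (Wf y)).hom s ^ (n + 1))
      rw [← map_pow (ν.app (Wf y)).hom, ← hF, ← map_mul F, IsLocalization.mk'_spec, hF, ha, map_pow, map_mul, map_pow,
        pow_succ, ← mul_assoc]
      replace hb : e w * algebraMap Γ(C', ν ⁻¹ᵁ Wf y) Γ(C', C'.basicOpen ((ν.app (Wf y)).hom s)) ((ν.app (Wf y)).hom s ^ n) =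
          algebraMap Γ(C', ν ⁻¹ᵁ Wf y) Γ(C', C'.basicOpen ((ν.app (Wf y)).hom s)) b := hb
      rw [map_pow] at hb
      rw [hF, hb, mul_comm]
    have hsz : (hWf y).fromSpec q ∈ C.basicOpen s := by
      show q ∈ (hWf y).fromSpec ⁻¹ᵁ C.basicOpen s
      rw [(hWf y).fromSpec_preimage_basicOpen]
      exact hsq
    refine hz (TopologicalSpace.Opens.mem_iSup.2 ⟨⟨C.basicOpen s, ?_⟩, hsz⟩)
    rw [isIso_morphismRestrict_iff_isIso_app ν ((hWf y).basicOpen s), ConcreteCategory.isIso_iff_bijective]
    exact ⟨hinj, hsurj⟩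
  · refine IsZariskiLocalAtTarget.of_forall_exists_morphismRestrict (P := MorphismProperty.isomorphisms Scheme)
      fun z => ?_
    obtain ⟨V, hV⟩ := TopologicalSpace.Opens.mem_iSup.1 z.2
    refine ⟨(Scheme.Opens.ι _) ⁻¹ᵁ V.1, hV, ?_⟩
    rw [MorphismProperty.arrow_mk_iso_iff (MorphismProperty.isomorphisms Scheme) (morphismRestrictRestrict _ _ _)]
    have e : (⨆ V : {V : C.Opens // IsIso (ν ∣_ V)}, V.1).ι ''ᵁ
        ((⨆ V : {V : C.Opens // IsIso (ν ∣_ V)}, V.1).ι ⁻¹ᵁ V.1) = V.1 := by
      rw [Scheme.Hom.image_preimage_eq_opensRange_inf, Scheme.Opens.opensRange_ι, inf_eq_right]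
      exact le_iSup (fun V : {V : C.Opens // IsIso (ν ∣_ V)} => V.1) V
    rw [e]
    exact V.2

omit [IsReduced C] [IsReduced C'] in
/-- A step which is injective with trivial residue extensions is a pushout along the dual numbers. -/
theorem IsStep.dualNumber {Y' Y : Scheme.{u}} {c : Y' ⟶ Y} {x : Y} (h : IsStep c x)
    (hinj : Function.Injective c) (hres : HTop.ResidueFieldsIso c) :
    ∃ j : Spec (CommRingCat.of (DualNumber (Y.residueField x))) ⟶ Y', IsClosedImmersion j ∧
      IsPushout j (Spec.map (CommRingCat.ofHom (algebraMap (Y.residueField x) (DualNumber (Y.residueField x)))))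
        c (Y.fromSpecResidueField x) := by
  obtain ⟨R, _, _, _, j, hj, hp⟩ := h.pushout
  let χ := algebraMap (Y.residueField x) R
  let σ : Spec (CommRingCat.of R) ⟶ Spec (Y.residueField x) := Spec.map (CommRingCat.ofHom χ)
  have hw : j ≫ c = σ ≫ Y.fromSpecResidueField x := hp.w
  haveI : Subsingleton (PrimeSpectrum R) := ⟨fun p q => j.isClosedEmbedding.injective (hinj <| by
    rw [← Scheme.Hom.comp_apply, ← Scheme.Hom.comp_apply, hw, Scheme.Hom.comp_apply, Scheme.Hom.comp_apply]
    exact (Scheme.fromSpecResidueField_apply x _).trans (Scheme.fromSpecResidueField_apply x _).symm)⟩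
  obtain ⟨e⟩ := exists_dualNumber_equiv (K := Y.residueField x) (R := R) fun p => by
    have h1 : Function.Surjective (σ.residueFieldMap p) := by
      have hjc : Function.Surjective ((j ≫ c).residueFieldMap p) := by
        rw [Scheme.residueFieldMap_comp]
        haveI := hres (j p)
        have hjp : IsIso (j.residueFieldMap p) := Groth.L28.AWN.residueFieldsIso_of_isPreimmersion j p
        intro z
        obtain ⟨w, hw₁⟩ := (ConcreteCategory.bijective_of_isIso (j.residueFieldMap p)).2 z
        obtain ⟨v, hv⟩ := (ConcreteCategory.bijective_of_isIso (c.residueFieldMap (j p))).2 w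
        refine ⟨v, ?_⟩
        rw [CategoryTheory.comp_apply]
        exact (congrArg (fun t => (j.residueFieldMap p).hom t) hv).trans hw₁
      rw [Scheme.Hom.residueFieldMap_congr hw, Scheme.residueFieldMap_comp] at hjc
      intro z
      obtain ⟨w, hw₁⟩ := hjc z
      rw [CategoryTheory.comp_apply, CategoryTheory.comp_apply] at hw₁
      exact ⟨_, hw₁⟩
    haveI := p.2
    intro z
    have h2 : Function.Surjective (Ideal.ResidueField.map (PrimeSpectrum.comap χ p).asIdeal p.asIdeal χ rfl) :=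
      ((Groth.L05.EtaPt.isIso_residueFieldMap_iff χ p).1
        ((ConcreteCategory.isIso_iff_bijective _).2 ⟨RingHom.injective _, h1⟩)).2
    obtain ⟨z, rfl⟩ := Ideal.Quotient.mk_surjective z
    obtain ⟨w, hw'⟩ := h2 (algebraMap R p.asIdeal.ResidueField z)
    obtain ⟨a, s, hs, hws⟩ := Groth.L28.AWN.exists_frac _ w
    refine ⟨a * s⁻¹, ?_⟩
    rw [RingHom.comp_apply, Ideal.Quotient.eq, ← Ideal.algebraMap_residueField_eq_zero, map_sub, map_mul, map_mul,
      sub_eq_zero]
    have hs0 : s ≠ 0 := fun h0 => hs (h0 ▸ Ideal.zero_mem _)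
    have e1 := congrArg (Ideal.ResidueField.map (PrimeSpectrum.comap χ p).asIdeal p.asIdeal χ rfl) hws
    rw [map_mul, hw', Ideal.ResidueField.map_algebraMap, Ideal.ResidueField.map_algebraMap] at e1
    simp only [χ] at e1 ⊢
    rw [← e1, mul_assoc, ← map_mul, ← map_mul, ← map_mul (algebraMap (Y.residueField x) R), mul_inv_cancel₀ hs0, map_one, mul_one]
  let φ : CommRingCat.of (DualNumber (Y.residueField x)) ≅ CommRingCat.of R := e.toRingEquiv.toCommRingCatIso
  let E : Spec (CommRingCat.of R) ≅ Spec (CommRingCat.of (DualNumber (Y.residueField x))) :=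
    Scheme.Spec.mapIso φ.op
  refine ⟨E.inv ≫ j, inferInstance, ?_⟩
  refine hp.of_iso E (Iso.refl _) (Iso.refl _) (Iso.refl _) ?_ ?_ ?_ ?_
  · simp
  · show Spec.map _ ≫ 𝟙 _ = Spec.map φ.hom ≫ Spec.map _
    rw [Category.comp_id, ← Spec.map_comp]
    congr 1
    ext r
    exact (e.commutes r).symm
  · simp
  · simp

end Groth.L21.PrimeChain
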