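import Groth.Agent.L28.AWN.Key
import Groth.Prelude.Def_Found
import Mathlib.RingTheory.Ideal.MinimalPrime.Noetherian
import Mathlib.RingTheory.KrullDimension.Basic

/-!
# Finiteness of reduced universal homeomorphisms with trivial residue extensions
-/

set_option autoImplicit false
set_option linter.style.haveILetI false
set_option linter.unusedSectionVars false
set_option backward.isDefEq.respectTransparency false
set_option backward.isDefEq.respectTransparency.types false

universe u

noncomputable section

namespace Groth.L21.PrimeChain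

open AlgebraicGeometry CategoryTheory
open Groth.L28.AWN (IsUH exists_frac)

variable {A B : Type u} [CommRing A] [CommRing B]

/-- A ring map with trivial residue extensions, elementwise. -/
theorem exists_residual {f : A →+* B} (hres : HTop.ResidueFieldsIso (Spec.map (CommRingCat.ofHom f)))
    (Q : Ideal B) [hQ : Q.IsPrime] (c : B) : ∃ a s : A, f s ∉ Q ∧ f s * c - f a ∈ Q := by
  obtain ⟨w, hw⟩ := ((Groth.L05.EtaPt.isIso_residueFieldMap_iff f ⟨Q, hQ⟩).mp (hres _)).2
    (algebraMap B _ c)
  obtain ⟨a, s, hs, hw'⟩ := exists_frac _ w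
  refine ⟨a, s, hs, ?_⟩
  rw [← Ideal.algebraMap_residueField_eq_zero, map_sub, map_mul, ← hw, sub_eq_zero]
  have e := congrArg (Ideal.ResidueField.map (PrimeSpectrum.comap f ⟨Q, hQ⟩).asIdeal
    Q f rfl) hw'
  rw [map_mul] at e
  refine (mul_comm _ _).trans (Eq.trans ?_ (e.trans (Ideal.ResidueField.map_algebraMap _ _ f rfl a)))
  exact congrArg (_ * ·) (Ideal.ResidueField.map_algebraMap _ _ f rfl s).symm

variable [Algebra A B]

/-- An element lying in the prime over every minimal prime is zero. -/
theorem eq_zero_of_forall_mem [IsReduced B] (huh : IsUH (algebraMap A B)) (q : minimalPrimes A → Ideal B)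
    (hq : ∀ p, (q p).IsPrime) (hqp : ∀ p, (q p).comap (algebraMap A B) = p.1) {z : B} (hz : ∀ p, z ∈ q p) :
    z = 0 := by
  haveI : Algebra.IsIntegral A B := ⟨huh.integral⟩
  refine IsNilpotent.eq_zero (mem_nilradical.mp ?_)
  rw [nilradical_eq_sInf, Submodule.mem_sInf]
  intro (Q : Ideal B) (hQ : Q.IsPrime)
  obtain ⟨p₀, hp₀, hle⟩ := Ideal.exists_minimalPrimes_le (I := (⊥ : Ideal A))
    (J := Q.comap (algebraMap A B)) bot_le
  haveI := hq ⟨p₀, hp₀⟩
  obtain ⟨Q', hle', hQ', hQ'c⟩ := Ideal.exists_ideal_over_prime_of_isIntegral (Q.comap (algebraMap A B))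
    (q ⟨p₀, hp₀⟩) ((hqp ⟨p₀, hp₀⟩).trans_le hle)
  rw [← huh.prime_unique Q' Q hQ' hQ hQ'c]
  exact hle' (hz ⟨p₀, hp₀⟩)

/-- At a minimal prime every element becomes a fraction from the base. -/
theorem exists_mul_mem_range [IsNoetherianRing A] [IsReduced B] (huh : IsUH (algebraMap A B))
    (hres : HTop.ResidueFieldsIso (Spec.map (CommRingCat.ofHom (algebraMap A B)))) {p : Ideal A}
    (hp : p ∈ minimalPrimes A) (b : B) :
    ∃ s ∉ p, algebraMap A B s * b ∈ (algebraMap A B).range := by
  classical
  haveI hpp : p.IsPrime := Ideal.minimalPrimes_isPrime hp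
  haveI hfin := (minimalPrimes.finite_of_isNoetherianRing A).fintype
  haveI : ∀ i : minimalPrimes A, i.1.IsPrime := fun i => Ideal.minimalPrimes_isPrime i.2
  choose q hq hqc using fun i : minimalPrimes A => huh.exists_comap i.1
  haveI := hq ⟨p, hp⟩
  obtain ⟨a, s, hs, hz⟩ := exists_residual hres (q ⟨p, hp⟩) b
  have hsp : s ∉ p := fun h => hs (by rw [← Ideal.mem_comap, hqc]; exact h)
  obtain ⟨u, hu, hup⟩ : ∃ u ∈ (Finset.univ.erase (⟨p, hp⟩ : minimalPrimes A)).inf (fun i => i.1), u ∉ p := by
    refine SetLike.not_le_iff_exists.1 fun hle => ?_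
    obtain ⟨i, hi, hip⟩ := hpp.inf_le'.1 hle
    exact (Finset.mem_erase.1 hi).1 (Subtype.ext (Minimal.eq_of_le (P := fun q : Ideal A => q.IsPrime ∧ ⊥ ≤ q) hp ⟨inferInstance, bot_le⟩ hip))
  refine ⟨u * s, hpp.mul_notMem hup hsp, u * a, ?_⟩
  rw [map_mul, map_mul, mul_assoc, ← sub_eq_zero]
  refine eq_zero_of_forall_mem huh q hq hqc fun i => ?_
  by_cases hi : i = ⟨p, hp⟩
  · subst hi
    rw [← mul_sub]
    refine Ideal.mul_mem_left _ _ ?_
    rw [← neg_sub]
    exact neg_mem hz
  · rw [← mul_sub]
    refine Ideal.mul_mem_right _ _ ?_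
    rw [← Ideal.mem_comap, hqc]
    exact Finset.inf_le (f := fun i : minimalPrimes A => i.1)
      (Finset.mem_erase.2 ⟨hi, Finset.mem_univ i⟩) hu

/-- Finiteness. -/
theorem finite_of_isUH [IsReduced B] (hN : CAlg.IsNagata A) (huh : IsUH (algebraMap A B))
    (hres : HTop.ResidueFieldsIso (Spec.map (CommRingCat.ofHom (algebraMap A B)))) : Module.Finite A B := by
  classical
  haveI : IsNoetherianRing A := hN.1
  haveI := (minimalPrimes.finite_of_isNoetherianRing A).fintype
  haveI : ∀ i : minimalPrimes A, i.1.IsPrime := fun i => Ideal.minimalPrimes_isPrime i.2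
  choose q hq hqc using fun i : minimalPrimes A => huh.exists_comap i.1
  have hfin : ∀ i, Module.Finite A (integralClosure A (q i).ResidueField) := by
    intro i
    letI : Algebra (A ⧸ i.1) (q i).ResidueField :=
      (Ideal.Quotient.lift i.1 (algebraMap A (q i).ResidueField) fun a ha => by
        rw [IsScalarTower.algebraMap_apply A B (q i).ResidueField, Ideal.algebraMap_residueField_eq_zero,
          ← Ideal.mem_comap, hqc]
        exact ha).toAlgebra
    haveI : IsScalarTower A (A ⧸ i.1) (q i).ResidueField := IsScalarTower.of_algebraMap_eq fun _ => rfl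
    haveI : FaithfulSMul (A ⧸ i.1) (q i).ResidueField := by
      refine (faithfulSMul_iff_algebraMap_injective _ _).2 ((injective_iff_map_eq_zero _).2 fun z hz => ?_)
      obtain ⟨a, rfl⟩ := Ideal.Quotient.mk_surjective z
      replace hz : algebraMap A (q i).ResidueField a = 0 := hz
      rw [IsScalarTower.algebraMap_apply A B (q i).ResidueField, Ideal.algebraMap_residueField_eq_zero,
        ← Ideal.mem_comap, hqc] at hz
      exact Ideal.Quotient.eq_zero_iff_mem.2 hz
    letI : Algebra (FractionRing (A ⧸ i.1)) (q i).ResidueField := FractionRing.liftAlgebra _ _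
    haveI := FractionRing.isScalarTower_liftAlgebra (A ⧸ i.1) (q i).ResidueField
    let K := (algebraMap (FractionRing (A ⧸ i.1)) (q i).ResidueField).fieldRange
    have hA : ∀ a, algebraMap A (q i).ResidueField a ∈ K := fun a =>
      ⟨algebraMap (A ⧸ i.1) _ (Ideal.Quotient.mk _ a), (IsScalarTower.algebraMap_apply _ _ _ _).symm⟩
    have hB : ∀ c, algebraMap B (q i).ResidueField c ∈ K := fun c => by
      obtain ⟨a, s, hs, hz⟩ := exists_residual hres (q i) c
      rw [← Ideal.algebraMap_residueField_eq_zero, map_sub, map_mul, sub_eq_zero,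
        ← IsScalarTower.algebraMap_apply, ← IsScalarTower.algebraMap_apply] at hz
      have hne : algebraMap A (q i).ResidueField s ≠ 0 := fun h => hs <| by
        rwa [IsScalarTower.algebraMap_apply A B (q i).ResidueField, Ideal.algebraMap_residueField_eq_zero] at h
      rw [show algebraMap B (q i).ResidueField c =
        algebraMap A (q i).ResidueField a / algebraMap A (q i).ResidueField s by
          rw [eq_div_iff hne, mul_comm]; exact hz]
      exact div_mem (hA a) (hA s)
    have hsurj : Function.Surjective (algebraMap (FractionRing (A ⧸ i.1)) (q i).ResidueField) := fun w => by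
      obtain ⟨c, d, -, rfl⟩ := IsFractionRing.div_surjective (A := B ⧸ q i) w
      obtain ⟨c, rfl⟩ := Ideal.Quotient.mk_surjective c
      obtain ⟨d, rfl⟩ := Ideal.Quotient.mk_surjective d
      rw [← Ideal.Quotient.algebraMap_eq, ← IsScalarTower.algebraMap_apply, ← IsScalarTower.algebraMap_apply]
      exact RingHom.mem_fieldRange.1 (div_mem (hB c) (hB d))
    haveI : Module.Finite (FractionRing (A ⧸ i.1)) (q i).ResidueField :=
      Module.Finite.of_surjective (Algebra.linearMap _ _) hsurj
    haveI := hN.2 i.1 (q i).ResidueField inferInstance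
    haveI : Module.Finite A (integralClosure (A ⧸ i.1) (q i).ResidueField) := Module.Finite.trans (A ⧸ i.1) _
    let e : integralClosure (A ⧸ i.1) (q i).ResidueField →ₗ[A] integralClosure A (q i).ResidueField :=
      { toFun := fun z => ⟨z, isIntegral_trans (R := A) (A := A ⧸ i.1) z.1 z.2⟩
        map_add' := fun _ _ => rfl
        map_smul' := fun _ _ => rfl }
    exact Module.Finite.of_surjective e fun z => ⟨⟨z, z.2.tower_top⟩, rfl⟩
  haveI : Algebra.IsIntegral A B := ⟨huh.integral⟩
  let F : B →ₗ[A] ∀ i : minimalPrimes A, integralClosure A (q i).ResidueField :=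
    { toFun := fun z i => ⟨IsScalarTower.toAlgHom A B _ z, (Algebra.IsIntegral.isIntegral z).map _⟩
      map_add' := fun x y => funext fun i => Subtype.ext (map_add (IsScalarTower.toAlgHom A B _) _ _)
      map_smul' := fun c x => funext fun i => Subtype.ext (map_smul (IsScalarTower.toAlgHom A B _) c x) }
  refine Module.Finite.of_injective F ((injective_iff_map_eq_zero F).mpr fun z hz => ?_)
  refine eq_zero_of_forall_mem huh q hq hqc fun i => ?_
  exact Ideal.algebraMap_residueField_eq_zero.1 (congrArg Subtype.val (congrFun hz i))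

/-- The base agrees with the extension outside finitely many maximal ideals. -/
theorem exists_conductor [IsReduced B] (hN : CAlg.IsNagata A) (hdim : ringKrullDim A ≤ 1)
    (huh : IsUH (algebraMap A B))
    (hres : HTop.ResidueFieldsIso (Spec.map (CommRingCat.ofHom (algebraMap A B)))) :
    ∃ I : Ideal A, (∀ a ∈ I, ∀ b, algebraMap A B a * b ∈ (algebraMap A B).range) ∧
      {q : PrimeSpectrum A | I ≤ q.asIdeal}.Finite := by
  classical
  haveI : IsNoetherianRing A := hN.1
  haveI := finite_of_isUH hN huh hres
  obtain ⟨G, hG⟩ := (inferInstance : Module.Finite A B).fg_top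
  let I : Ideal A :=
    { carrier := {a | ∀ b, algebraMap A B a * b ∈ (algebraMap A B).range}
      add_mem' := fun {a c} ha hc b => by rw [map_add, add_mul]; exact add_mem (ha b) (hc b)
      zero_mem' := fun b => by rw [map_zero, zero_mul]; exact zero_mem _
      smul_mem' := fun c a ha b => by
        rw [smul_eq_mul, map_mul, mul_assoc]; exact mul_mem ⟨c, rfl⟩ (ha b) }
  have hI : ∀ p ∈ minimalPrimes A, ¬ I ≤ p := by
    intro p hp hle
    haveI := Ideal.minimalPrimes_isPrime hp
    choose s hs hsG using fun b : B => exists_mul_mem_range huh hres hp b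
    suffices ∏ g ∈ G, s g ∈ I by
      obtain ⟨g, -, hg⟩ := (Ideal.IsPrime.prod_mem_iff).1 (hle this)
      exact hs g hg
    intro b
    have hb : b ∈ Submodule.span A (G : Set B) := by rw [hG]; trivial
    induction hb using Submodule.span_induction with
    | mem g hg =>
      rw [← Finset.mul_prod_erase G s hg, map_mul, mul_comm (algebraMap A B (s g)), mul_assoc]
      exact mul_mem ⟨_, rfl⟩ (hsG g)
    | zero => rw [mul_zero]; exact zero_mem _
    | add x y _ _ hx hy => rw [mul_add]; exact add_mem hx hy
    | smul c x _ hx => rw [Algebra.smul_def, mul_left_comm]; exact mul_mem ⟨c, rfl⟩ hx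
  refine ⟨I, fun a ha => ha,
    ((Ideal.finite_minimalPrimes_of_isNoetherianRing A I).preimage
      (fun _ _ _ _ h => PrimeSpectrum.ext h)).subset fun q hq => ?_⟩
  refine ⟨⟨q.2, hq⟩, fun J hJ hle => ?_⟩
  haveI := hJ.1
  obtain ⟨p₀, hp₀, hp₀le⟩ := Ideal.exists_minimalPrimes_le (I := (⊥ : Ideal A)) (J := J) bot_le
  by_contra hne
  have h1 : J < q.asIdeal := lt_of_le_not_ge hle hne
  have h2 : p₀ < J := lt_of_le_of_ne hp₀le fun e => hI p₀ hp₀ (e ▸ hJ.2)
  haveI := Ideal.minimalPrimes_isPrime hp₀
  haveI := hJ.1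
  let l : LTSeries (PrimeSpectrum A) :=
    { length := 2
      toFun := ![⟨p₀, inferInstance⟩, ⟨J, inferInstance⟩, q]
      step := fun i => by
        fin_cases i
        · exact h2
        · exact h1 }
  exact absurd ((Order.LTSeries.length_le_krullDim l).trans hdim)
    (by decide +kernel : ¬ ((2 : ℕ) : WithBot ℕ∞) ≤ 1)

end Groth.L21.PrimeChain
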